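import Mathlib
import Groth.Agent.EGA43Valuative.DominatingDVR
import Groth.Agent.NeronArea.WeilExtensionBase
import Groth.Prelude.Def_Neron

/-!
Proper schemes over Dedekind domains: sections extend from the generic point; integral points.
-/

set_option autoImplicit false

universe u

open CategoryTheory CategoryTheory.Limits AlgebraicGeometry

noncomputable section

namespace Groth.TorsProper

/-- A point of a proper scheme over the fraction field of a Dedekind domain extends to a section. -/
theorem exists_section_extend (R : Type u) [CommRing R] [IsDedekindDomain R] (K : Type u) [Field K]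
    [Algebra R K] [IsFractionRing R K] {Y : Scheme.{u}} (p : Y ⟶ Spec (CommRingCat.of R)) [IsProper p]
    (u : Spec (CommRingCat.of K) ⟶ Y) (hu : u ≫ p = Groth.NeronArea.Weil.genMap K) :
    ∃ s : Spec (CommRingCat.of R) ⟶ Y, s ≫ p = 𝟙 _ ∧ Groth.NeronArea.Weil.genMap K ≫ s = u := by
  let g := Groth.NeronArea.Weil.genMap (R := R) K
  obtain ⟨U, v, hv, hU, m, hm, hmv⟩ := Groth.NeronArea.Weil.exists_extension_generic K
    (𝟙 (Spec (CommRingCat.of R))) p (pullback.snd _ g ≫ u)
    (by rw [Category.assoc, hu, Category.comp_id, ← pullback.condition, Category.comp_id])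
  have htop : U = ⊤ :=
    top_le_iff.1 fun y _ => hU y (Groth.NeronArea.Weil.dedekind_stalk (R := R) y).2
  subst htop
  have hg : IsIso (pullback.snd (𝟙 (Spec (CommRingCat.of R))) g) := inferInstance
  refine ⟨(Spec (CommRingCat.of R)).topIso.inv ≫ v, ?_, ?_⟩
  · rw [Category.assoc, hv, Category.comp_id]
    exact (Spec (CommRingCat.of R)).topIso.inv_hom_id
  · rw [← cancel_epi (pullback.snd (𝟙 (Spec (CommRingCat.of R))) g), ← hmv]
    have e : pullback.snd (𝟙 (Spec (CommRingCat.of R))) g ≫ g ≫ (Spec (CommRingCat.of R)).topIso.inv = m := by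
      rw [← cancel_mono (⊤ : (Spec (CommRingCat.of R)).Opens).ι, hm, Category.assoc, Category.assoc,
        show (Spec (CommRingCat.of R)).topIso.inv ≫ (⊤ : (Spec (CommRingCat.of R)).Opens).ι = 𝟙 _ from
          (Spec (CommRingCat.of R)).topIso.inv_hom_id, Category.comp_id, ← pullback.condition,
        Category.comp_id]
    rw [← e]
    simp only [Category.assoc]
    rfl

/-- A nonempty scheme locally of finite type over a field has a point in a finite extension. -/
theorem exists_finite_point (K : Type u) [Field K] {X : Scheme.{u}} (f : X ⟶ Spec (CommRingCat.of K))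
    [LocallyOfFiniteType f] [Nonempty X] :
    ∃ (L : Type u) (_ : Field L) (_ : Algebra K L) (_ : FiniteDimensional K L)
      (x : Spec (CommRingCat.of L) ⟶ X), x ≫ f = Spec.map (CommRingCat.ofHom (algebraMap K L)) := by
  obtain ⟨x⟩ := ‹Nonempty X›
  obtain ⟨U, hU, hxU, -⟩ := exists_isAffineOpen_mem_and_subset (X := X) (x := x) (U := ⊤) trivial
  let φ := Spec.preimage (hU.fromSpec ≫ f)
  have hφ : φ.hom.FiniteType := by
    rw [← HasRingHomProperty.Spec_iff (P := @LocallyOfFiniteType), Spec.map_preimage]
    infer_instance
  letI : Algebra K Γ(X, U) := φ.hom.toAlgebra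
  haveI : Algebra.FiniteType K Γ(X, U) := hφ
  haveI : Nonempty (PrimeSpectrum Γ(X, U)) := ⟨hU.primeIdealOf ⟨x, hxU⟩⟩
  haveI : Nontrivial Γ(X, U) := PrimeSpectrum.nonempty_iff_nontrivial.1 ‹_›
  obtain ⟨m, hm⟩ := Ideal.exists_maximal Γ(X, U)
  letI := Ideal.Quotient.field m
  haveI : Algebra.FiniteType K (Γ(X, U) ⧸ m) :=
    Algebra.FiniteType.of_surjective (Ideal.Quotient.mkₐ K m) Ideal.Quotient.mk_surjective
  haveI := finite_of_finite_type_of_isJacobsonRing K (Γ(X, U) ⧸ m)
  refine ⟨Γ(X, U) ⧸ m, inferInstance, inferInstance, inferInstance,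
    Spec.map (CommRingCat.ofHom (Ideal.Quotient.mk m)) ≫ hU.fromSpec, ?_⟩
  rw [Category.assoc, ← Spec.map_preimage (hU.fromSpec ≫ f), ← Spec.map_comp]
  rfl

/-- A proper surjective scheme over a Dedekind domain has a point in a Dedekind domain, faithfully
flat over the base, which is a lattice in a finite extension of the fraction field. -/
theorem exists_integral_cover (R : Type u) [CommRing R] [IsDedekindDomain R] {X : Scheme.{u}}
    (p : X ⟶ Spec (CommRingCat.of R)) [LocallyOfFiniteType p] [Surjective p] :
    ∃ (L : Type u) (R' : Type u) (_ : Field L) (_ : CommRing R') (_ : IsDedekindDomain R') (_ : Algebra R R')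
      (_ : Algebra (FractionRing R) L) (_ : Algebra R L) (_ : Algebra R' L) (_ : IsScalarTower R R' L)
      (_ : IsScalarTower R (FractionRing R) L) (_ : IsFractionRing R' L),
      Surjective (Spec.map (CommRingCat.ofHom (algebraMap R R'))) ∧
      Flat (Spec.map (CommRingCat.ofHom (algebraMap R R'))) ∧
      IsPullback (Spec.map (CommRingCat.ofHom (algebraMap R' L)))
        (Spec.map (CommRingCat.ofHom (algebraMap (FractionRing R) L)))
        (Spec.map (CommRingCat.ofHom (algebraMap R R'))) (Neron.genPt R) ∧
      ∃ x : Spec (CommRingCat.of L) ⟶ X, x ≫ p = Spec.map (CommRingCat.ofHom (algebraMap R L)) := by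
  let K := FractionRing R
  haveI : Nonempty (pullback p (Neron.genPt R) : Scheme.{u}) := by
    haveI : Surjective (pullback.snd p (Neron.genPt R)) := inferInstance
    obtain ⟨y, -⟩ := (pullback.snd p (Neron.genPt R)).surjective (Classical.arbitrary _)
    exact ⟨y⟩
  obtain ⟨L, _, _, _, x, hx⟩ := exists_finite_point K (pullback.snd p (Neron.genPt R))
  letI : Algebra R L := ((algebraMap K L).comp (algebraMap R K)).toAlgebra
  haveI : IsScalarTower R K L := IsScalarTower.of_algebraMap_eq' rfl
  let R' := integralClosure R L
  haveI : IsDedekindDomain R' :=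
    Groth.EGA43Val.isDedekindDomain_integralClosure R K L
  haveI : IsFractionRing R' L := integralClosure.isFractionRing_of_finite_extension K L
  haveI hinj : FaithfulSMul R R' := (faithfulSMul_iff_algebraMap_injective R R').2 fun a b hab => by
    apply IsFractionRing.injective R K
    apply (algebraMap K L).injective
    exact congrArg Subtype.val hab
  haveI : Algebra.IsIntegral R R' := IsIntegralClosure.isIntegral_algebra R L
  refine ⟨L, R', inferInstance, inferInstance, inferInstance, inferInstance, inferInstance, inferInstance,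
    inferInstance, inferInstance, inferInstance, inferInstance, ?_, ?_, ?_, x ≫ pullback.fst _ _, ?_⟩
  · exact ⟨fun q => Algebra.IsIntegral.comap_surjective R R' q⟩
  · rw [HasRingHomProperty.Spec_iff (P := @Flat)]
    exact RingHom.flat_algebraMap_iff.2 inferInstance
  · haveI : IsLocalization (Submonoid.map (algebraMap R R') (nonZeroDivisors R)) L :=
      IsIntegralClosure.isLocalization R K L R'
    exact isPullback_SpecMap_of_isPushout _ _ _ _
      (CommRingCat.isPushout_of_isLocalization (algebraMap R R') (algebraMap K L)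
        (RingHom.ext fun r => rfl) (nonZeroDivisors R))
  · rw [Category.assoc, pullback.condition, reassoc_of% hx, Neron.genPt, ← Spec.map_comp]
    rfl

end Groth.TorsProper
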