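import Mathlib
import Groth.Prelude.Def_ActBC
import Groth.Agent.TorsProper.Points
import Groth.Agent.NeronArea.MappingDescent
import Groth.Agent.NeronArea.GenericDense

/-!
An equivariant isomorphism of the generic fibres of proper flat torsors over a Dedekind domain extends.
-/

set_option autoImplicit false
set_option backward.isDefEq.respectTransparency false

universe u

open CategoryTheory CategoryTheory.Limits MonoidalCategory CartesianMonoidalCategory MonObj GrpObj
open AlgebraicGeometry

noncomputable section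

namespace Groth.TorsProper

variable {S U : Scheme.{u}} (j : U ⟶ S)

/-- The projection of the restriction. -/
abbrev cu (Y : Over S) : (Over.map j).obj ((Over.pullback j).obj Y) ⟶ Y :=
  (Over.mapPullbackAdj j).counit.app Y

/-- The adjunction bijection. -/
abbrev he (Z : Over U) (Y : Over S) : ((Over.map j).obj Z ⟶ Y) ≃ (Z ⟶ (Over.pullback j).obj Y) :=
  (Over.mapPullbackAdj j).homEquiv Z Y

theorem map_he_cu {Z : Over U} {Y : Over S} (z : (Over.map j).obj Z ⟶ Y) :
    (Over.map j).map (he j Z Y z) ≫ cu j Y = z := by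
  have h := (he j Z Y).symm_apply_apply z
  simp only [Adjunction.homEquiv_counit] at h
  exact h

theorem cu_naturality {Y Y' : Over S} (f : Y ⟶ Y') :
    (Over.map j).map ((Over.pullback j).map f) ≫ cu j Y' = cu j Y ≫ f :=
  (Over.mapPullbackAdj j).counit.naturality f

theorem eq_of_cu [IsSchemeTheoreticallyDominant j] [QuasiCompact j] {Y Q : Over S} [Flat Y.hom]
    [IsSeparated Q.hom] {a b : Y ⟶ Q} (h : cu j Y ≫ a = cu j Y ≫ b) : a = b := by
  refine Groth.NeronArea.map_injective_of_flat j Y Q ?_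
  apply (he j _ Q).symm.injective
  simp only [Adjunction.homEquiv_counit]
  exact (cu_naturality j a).trans (h.trans (cu_naturality j b).symm)

theorem epi_map_pullback_map {Y Y' : Over S} (c : Y ⟶ Y') [Surjective c.left] [Flat c.left]
    [QuasiCompact c.left] : Epi ((Over.map j).map ((Over.pullback j).map c)) := by
  let m := ((Over.pullback j).map c).left
  have h1 : m ≫ pullback.snd Y'.hom j = pullback.snd Y.hom j := pullback.lift_snd _ _ _
  have h2 : m ≫ pullback.fst Y'.hom j = pullback.fst Y.hom j ≫ c.left := pullback.lift_fst _ _ _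
  have hp : IsPullback m (pullback.fst Y.hom j) (pullback.fst Y'.hom j) c.left := by
    refine IsPullback.of_right ?_ h2 (IsPullback.of_hasPullback Y'.hom j).flip
    rw [h1, Over.w]
    exact (IsPullback.of_hasPullback Y.hom j).flip
  haveI : Surjective m := MorphismProperty.of_isPullback hp.flip ‹Surjective c.left›
  haveI : Flat m := MorphismProperty.of_isPullback hp.flip ‹Flat c.left›
  haveI : QuasiCompact m := MorphismProperty.of_isPullback hp.flip ‹QuasiCompact c.left›
  haveI : EffectiveEpi m := inferInstance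
  haveI : Epi ((Over.map j).map ((Over.pullback j).map c)).left := inferInstanceAs (Epi m)
  exact Over.epi_of_epi_left _

theorem exists_desc {Y Y' Q : Over S} (c : Y ⟶ Y') [Surjective c.left] [Flat c.left]
    [QuasiCompact c.left] (ψ : Y ⟶ Q)
    (h : ∀ (W : Over S) (d₁ d₂ : W ⟶ Y), d₁ ≫ c = d₂ ≫ c →
      (∀ [Flat c.left], IsPullback d₁.left d₂.left c.left c.left → d₁ ≫ ψ = d₂ ≫ ψ)) :
    ∃ g : Y' ⟶ Q, c ≫ g = ψ := by
  let W : Over S := Over.mk (pullback.fst c.left c.left ≫ Y.hom)
  let d₁ : W ⟶ Y := Over.homMk (pullback.fst c.left c.left) rfl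
  let d₂ : W ⟶ Y := Over.homMk (pullback.snd c.left c.left) (by
    show pullback.snd c.left c.left ≫ Y.hom = pullback.fst c.left c.left ≫ Y.hom
    rw [← Over.w c, pullback.condition_assoc])
  have heq := h W d₁ d₂ (Over.OverMorphism.ext pullback.condition) (IsPullback.of_hasPullback _ _)
  have hcond : ∀ {Z : Scheme.{u}} (g₁ g₂ : Z ⟶ Y.left), g₁ ≫ c.left = g₂ ≫ c.left →
      g₁ ≫ ψ.left = g₂ ≫ ψ.left := fun g₁ g₂ hg => by
    have h2 : pullback.fst c.left c.left ≫ ψ.left = pullback.snd c.left c.left ≫ ψ.left :=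
      congrArg CommaMorphism.left heq
    have := congrArg (pullback.lift g₁ g₂ hg ≫ ·) h2
    simpa using this
  haveI : EffectiveEpi c.left := inferInstance
  have hg : c.left ≫ EffectiveEpi.desc c.left ψ.left hcond = ψ.left :=
    EffectiveEpi.fac c.left ψ.left hcond
  exact ⟨Over.homMk (EffectiveEpi.desc c.left ψ.left hcond)
    (by rw [← cancel_epi c.left, reassoc_of% hg, Over.w ψ, Over.w c]), Over.OverMorphism.ext hg⟩

variable {G P Q : Over S} [GrpObj G] {a : AlgGrp.Action G P} {b : AlgGrp.Action G Q}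
  (e : NonAbH1.EquivIso (a.bc j) (b.bc j))

/-- The action of the generic isomorphism on points. -/
def genMove {Z : Over U} (z : (Over.map j).obj Z ⟶ P) : (Over.map j).obj Z ⟶ Q :=
  (he j Z Q).symm (he j Z P z ≫ e.iso.hom)

theorem genMove_nat {Z Z' : Over U} (h : Z' ⟶ Z) (z : (Over.map j).obj Z ⟶ P) :
    genMove j e ((Over.map j).map h ≫ z) = (Over.map j).map h ≫ genMove j e z := by
  rw [genMove, genMove, Adjunction.homEquiv_naturality_left, Category.assoc,
    Adjunction.homEquiv_naturality_left_symm]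

theorem genMove_act {Z : Over U} (g : (Over.map j).obj Z ⟶ G) (z : (Over.map j).obj Z ⟶ P) :
    genMove j e (lift g z ≫ a.act) = lift g (genMove j e z) ≫ b.act := by
  apply (he j Z Q).injective
  rw [genMove, Equiv.apply_symm_apply]
  simp only [he]
  rw [← AlgGrp.Action.lift_homEquiv_bc_act, ← AlgGrp.Action.lift_homEquiv_bc_act, Category.assoc, e.comm,
    lift_whiskerLeft_assoc, genMove, Equiv.apply_symm_apply]

/-- The inverse of an equivariant isomorphism. -/
def symmIso {G' X X' : Over U} [GrpObj G'] {c : AlgGrp.Action G' X} {c' : AlgGrp.Action G' X'}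
    (f : NonAbH1.EquivIso c c') : NonAbH1.EquivIso c' c where
  iso := f.iso.symm
  comm := by
    rw [← cancel_mono f.iso.hom]
    simp only [Iso.symm_hom, Category.assoc, Iso.inv_hom_id, Category.comp_id, f.comm]
    rw [← whiskerLeft_comp_assoc, Iso.inv_hom_id, MonoidalCategory.whiskerLeft_id, Category.id_comp]

theorem genMove_symm {Z : Over U} (z : (Over.map j).obj Z ⟶ P) :
    genMove j (symmIso e) (genMove j e z) = z := by
  rw [genMove, genMove, Equiv.apply_symm_apply, Category.assoc]
  simp [symmIso]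

theorem exists_hom [IsSchemeTheoreticallyDominant j] [QuasiCompact j]
    (ha : NonAbH1.IsPseudoTorsorSch a) [Flat P.hom] [IsSeparated Q.hom]
    (T : Over S) [Surjective T.hom] [Flat T.hom] [QuasiCompact T.hom]
    (x : T ⟶ P) (y : T ⟶ Q) (hxy : genMove j e (cu j T ≫ x) = cu j T ≫ y) :
    ∃ φ : P ⟶ Q, ∀ {Z : Over U} (z : (Over.map j).obj Z ⟶ P), genMove j e z = z ≫ φ := by
  let c : P ⊗ T ⟶ P := fst P T
  haveI : Surjective c.left := inferInstanceAs (Surjective (pullback.fst P.hom T.hom))
  haveI : Flat c.left := inferInstanceAs (Flat (pullback.fst P.hom T.hom))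
  haveI : QuasiCompact c.left := inferInstanceAs (QuasiCompact (pullback.fst P.hom T.hom))
  let ψ : P ⊗ T ⟶ Q :=
    lift (Groth.NeronArea.torsorDiv a ha c (snd P T ≫ x)) (snd P T ≫ y) ≫ b.act
  have hψ : genMove j e (cu j (P ⊗ T) ≫ c) = cu j (P ⊗ T) ≫ ψ := by
    have h1 : genMove j e (cu j (P ⊗ T) ≫ snd P T ≫ x) = cu j (P ⊗ T) ≫ snd P T ≫ y := by
      rw [← Category.assoc (cu j _) (snd P T) x, ← Category.assoc (cu j _) (snd P T) y,
        ← cu_naturality, Category.assoc, genMove_nat, hxy, Category.assoc]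
    conv_lhs => rw [← Groth.NeronArea.torsorDiv_act a ha c (snd P T ≫ x), ← Category.assoc, comp_lift,
      genMove_act, h1]
    simp only [ψ, comp_lift_assoc, Category.assoc]
  obtain ⟨φ, hφ⟩ := exists_desc c ψ fun W d₁ d₂ hd => fun hW => by
    haveI : Flat d₁.left := MorphismProperty.of_isPullback hW.flip ‹Flat c.left›
    haveI : Flat (P ⊗ T).hom := by
      rw [← Over.w c]; infer_instance
    haveI : Flat W.hom := by
      rw [← Over.w d₁]; infer_instance
    refine eq_of_cu j ?_
    have key : ∀ d : W ⟶ P ⊗ T, cu j W ≫ d ≫ ψ = genMove j e (cu j W ≫ d ≫ c) := fun d => by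
      rw [← Category.assoc, ← cu_naturality, Category.assoc, ← hψ, ← genMove_nat, ← Category.assoc,
        cu_naturality, Category.assoc]
    rw [key, key, hd]
  have hP : genMove j e (cu j P) = cu j P ≫ φ := by
    haveI := epi_map_pullback_map j c
    rw [← cancel_epi ((Over.map j).map ((Over.pullback j).map c)), ← genMove_nat, cu_naturality, hψ,
      ← Category.assoc _ (cu j P), cu_naturality, Category.assoc, hφ]
  refine ⟨φ, fun z => ?_⟩
  conv_lhs => rw [← map_he_cu j z, genMove_nat, hP, ← Category.assoc, map_he_cu]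

theorem equivariant_of_genMove [IsSchemeTheoreticallyDominant j] [QuasiCompact j] [Flat G.hom]
    [Flat P.hom] [IsSeparated Q.hom] (φ : P ⟶ Q)
    (h : ∀ {Z : Over U} (z : (Over.map j).obj Z ⟶ P), genMove j e z = z ≫ φ) :
    a.act ≫ φ = (G ◁ φ) ≫ b.act := by
  haveI : Flat (G ⊗ P).hom := by
    haveI : Flat (fst G P).left := inferInstanceAs (Flat (pullback.fst G.hom P.hom))
    rw [← Over.w (fst G P)]; infer_instance
  refine eq_of_cu j ?_
  have hid : lift (fst G P) (snd G P) = 𝟙 _ := lift_fst_snd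
  have hw : G ◁ φ = lift (fst G P) (snd G P ≫ φ) := by
    rw [← Category.id_comp (G ◁ φ), ← hid, lift_whiskerLeft]
  rw [← Category.assoc, ← h, show cu j (G ⊗ P) ≫ a.act = lift (cu j (G ⊗ P) ≫ fst G P)
    (cu j (G ⊗ P) ≫ snd G P) ≫ a.act by rw [← comp_lift, hid, Category.comp_id], genMove_act, h,
    hw, ← Category.assoc (cu j (G ⊗ P)), comp_lift, Category.assoc]

theorem exists_equivIso [IsSchemeTheoreticallyDominant j] [QuasiCompact j] [Flat G.hom]
    (ha : NonAbH1.IsPseudoTorsorSch a) (hb : NonAbH1.IsPseudoTorsorSch b)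
    [Flat P.hom] [IsSeparated P.hom] [Flat Q.hom] [IsSeparated Q.hom]
    (T : Over S) [Surjective T.hom] [Flat T.hom] [QuasiCompact T.hom]
    (x : T ⟶ P) (y : T ⟶ Q) (hxy : genMove j e (cu j T ≫ x) = cu j T ≫ y) :
    Nonempty (NonAbH1.EquivIso a b) := by
  obtain ⟨φ, hφ⟩ := exists_hom j e ha T x y hxy
  obtain ⟨φ', hφ'⟩ := exists_hom j (symmIso e) hb T y x (by rw [← hxy, genMove_symm])
  have h1 : φ ≫ φ' = 𝟙 P := eq_of_cu j (by
    rw [← Category.assoc, ← hφ, ← hφ', genMove_symm, Category.comp_id])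
  have h2 : φ' ≫ φ = 𝟙 Q := eq_of_cu j (by
    have := genMove_symm j (symmIso e) (cu j Q)
    have hs : symmIso (symmIso e) = e := rfl
    rw [hs] at this
    rw [← Category.assoc, ← hφ', ← hφ, this, Category.comp_id])
  exact ⟨⟨⟨φ, φ', h1, h2⟩, equivariant_of_genMove j e φ hφ⟩⟩

end Groth.TorsProper
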