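import Mathlib
import Groth.Agent.TorsProper.Extend

/-!
Equivariant isomorphisms of torsors given on a family of bases which detects morphisms from flat schemes.
-/

set_option autoImplicit false
set_option backward.isDefEq.respectTransparency false

universe u

open CategoryTheory CategoryTheory.Limits MonoidalCategory CartesianMonoidalCategory MonObj GrpObj
open AlgebraicGeometry

noncomputable section

namespace Groth.TorsProper.Family

variable {S : Scheme.{u}} {ι₀ : Type} {Uf : ι₀ → Scheme.{u}} (jf : ∀ i, Uf i ⟶ S)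

/-- Morphisms from flat to separated schemes are detected on the family. -/
def Detects : Prop :=
  ∀ (Y Q : Over S) [Flat Y.hom] [IsSeparated Q.hom] (a b : Y ⟶ Q),
    (∀ i, cu (jf i) Y ≫ a = cu (jf i) Y ≫ b) → a = b

variable {G P Q : Over S} [GrpObj G] {a : AlgGrp.Action G P} {b : AlgGrp.Action G Q}
  (e : ∀ i, NonAbH1.EquivIso (a.bc (jf i)) (b.bc (jf i)))

theorem exists_hom (hdet : Detects jf)
    (ha : NonAbH1.IsPseudoTorsorSch a) [Flat P.hom] [IsSeparated Q.hom]
    (T : Over S) [Surjective T.hom] [Flat T.hom] [QuasiCompact T.hom]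
    (x : T ⟶ P) (y : T ⟶ Q) (hxy : ∀ i, genMove (jf i) (e i) (cu (jf i) T ≫ x) = cu (jf i) T ≫ y) :
    ∃ φ : P ⟶ Q, ∀ (i : ι₀) {Z : Over (Uf i)} (z : (Over.map (jf i)).obj Z ⟶ P), genMove (jf i) (e i) z = z ≫ φ := by
  let c : P ⊗ T ⟶ P := fst P T
  haveI : Surjective c.left := inferInstanceAs (Surjective (pullback.fst P.hom T.hom))
  haveI : Flat c.left := inferInstanceAs (Flat (pullback.fst P.hom T.hom))
  haveI : QuasiCompact c.left := inferInstanceAs (QuasiCompact (pullback.fst P.hom T.hom))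
  let ψ : P ⊗ T ⟶ Q :=
    lift (Groth.NeronArea.torsorDiv a ha c (snd P T ≫ x)) (snd P T ≫ y) ≫ b.act
  have hψ : ∀ i, genMove (jf i) (e i) (cu (jf i) (P ⊗ T) ≫ c) = cu (jf i) (P ⊗ T) ≫ ψ := fun i => by
    have h1 : genMove (jf i) (e i) (cu (jf i) (P ⊗ T) ≫ snd P T ≫ x) = cu (jf i) (P ⊗ T) ≫ snd P T ≫ y := by
      rw [← Category.assoc (cu (jf i) _) (snd P T) x, ← Category.assoc (cu (jf i) _) (snd P T) y,
        ← cu_naturality, Category.assoc, genMove_nat, hxy i, Category.assoc]
    conv_lhs => rw [← Groth.NeronArea.torsorDiv_act a ha c (snd P T ≫ x), ← Category.assoc, comp_lift,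
      genMove_act, h1]
    simp only [ψ, comp_lift_assoc, Category.assoc]
  obtain ⟨φ, hφ⟩ := exists_desc c ψ fun W d₁ d₂ hd => fun hW => by
    haveI : Flat d₁.left := MorphismProperty.of_isPullback hW.flip ‹Flat c.left›
    haveI : Flat (P ⊗ T).hom := by
      rw [← Over.w c]; infer_instance
    haveI : Flat W.hom := by
      rw [← Over.w d₁]; infer_instance
    refine hdet _ _ _ _ fun i => ?_
    have key : ∀ d : W ⟶ P ⊗ T, cu (jf i) W ≫ d ≫ ψ = genMove (jf i) (e i) (cu (jf i) W ≫ d ≫ c) := fun d => by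
      rw [← Category.assoc, ← cu_naturality, Category.assoc, ← hψ i, ← genMove_nat, ← Category.assoc,
        cu_naturality, Category.assoc]
    rw [key, key, hd]
  have hP : ∀ i, genMove (jf i) (e i) (cu (jf i) P) = cu (jf i) P ≫ φ := fun i => by
    haveI := epi_map_pullback_map (jf i) c
    rw [← cancel_epi ((Over.map (jf i)).map ((Over.pullback (jf i)).map c)), ← genMove_nat, cu_naturality, hψ i,
      ← Category.assoc _ (cu (jf i) P), cu_naturality, Category.assoc, hφ]
  refine ⟨φ, fun i Z z => ?_⟩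
  conv_lhs => rw [← map_he_cu (jf i) z, genMove_nat, hP i, ← Category.assoc, map_he_cu]

theorem equivariant_of_genMove (hdet : Detects jf) [Flat G.hom]
    [Flat P.hom] [IsSeparated Q.hom] (φ : P ⟶ Q)
    (h : ∀ (i : ι₀) {Z : Over (Uf i)} (z : (Over.map (jf i)).obj Z ⟶ P), genMove (jf i) (e i) z = z ≫ φ) :
    a.act ≫ φ = (G ◁ φ) ≫ b.act := by
  haveI : Flat (G ⊗ P).hom := by
    haveI : Flat (fst G P).left := inferInstanceAs (Flat (pullback.fst G.hom P.hom))
    rw [← Over.w (fst G P)]; infer_instance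
  refine hdet _ _ _ _ fun i => ?_
  have hid : lift (fst G P) (snd G P) = 𝟙 _ := lift_fst_snd
  have hw : G ◁ φ = lift (fst G P) (snd G P ≫ φ) := by
    rw [← Category.id_comp (G ◁ φ), ← hid, lift_whiskerLeft]
  rw [← Category.assoc, ← h i, show cu (jf i) (G ⊗ P) ≫ a.act = lift (cu (jf i) (G ⊗ P) ≫ fst G P)
    (cu (jf i) (G ⊗ P) ≫ snd G P) ≫ a.act by rw [← comp_lift, hid, Category.comp_id], genMove_act, h i,
    hw, ← Category.assoc (cu (jf i) (G ⊗ P)), comp_lift, Category.assoc]

theorem exists_equivIso (hdet : Detects jf) [Flat G.hom]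
    (ha : NonAbH1.IsPseudoTorsorSch a) (hb : NonAbH1.IsPseudoTorsorSch b)
    [Flat P.hom] [IsSeparated P.hom] [Flat Q.hom] [IsSeparated Q.hom]
    (T : Over S) [Surjective T.hom] [Flat T.hom] [QuasiCompact T.hom]
    (x : T ⟶ P) (y : T ⟶ Q) (hxy : ∀ i, genMove (jf i) (e i) (cu (jf i) T ≫ x) = cu (jf i) T ≫ y) :
    ∃! α : NonAbH1.EquivIso a b, ∀ i, (Over.pullback (jf i)).mapIso α.iso = (e i).iso := by
  obtain ⟨φ, hφ⟩ := exists_hom jf e hdet ha T x y hxy
  obtain ⟨φ', hφ'⟩ := exists_hom jf (fun i => symmIso (e i)) hdet hb T y x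
    (fun i => by rw [← hxy i, genMove_symm])
  have h1 : φ ≫ φ' = 𝟙 P := hdet _ _ _ _ fun i => by
    rw [← Category.assoc, ← hφ i, ← hφ' i, genMove_symm, Category.comp_id]
  have h2 : φ' ≫ φ = 𝟙 Q := hdet _ _ _ _ fun i => by
    have := genMove_symm (jf i) (symmIso (e i)) (cu (jf i) Q)
    have hs : symmIso (symmIso (e i)) = e i := rfl
    rw [hs] at this
    rw [← Category.assoc, ← hφ' i, ← hφ i, this, Category.comp_id]
  have key : ∀ i, (Over.pullback (jf i)).map φ = (e i).iso.hom := fun i => by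
    apply (he (jf i) _ Q).symm.injective
    have h := hφ i (cu (jf i) P)
    have h0 : he (jf i) _ P (cu (jf i) P) = 𝟙 ((Over.pullback (jf i)).obj P) := by
      apply (he (jf i) _ P).symm.injective
      rw [Equiv.symm_apply_apply]
      simp only [he, Adjunction.homEquiv_counit]
      erw [CategoryTheory.Functor.map_id, Category.id_comp]
    rw [genMove, h0, Category.id_comp] at h
    rw [h]
    simp only [Adjunction.homEquiv_counit]
    exact cu_naturality (jf i) φ
  refine ⟨⟨⟨φ, φ', h1, h2⟩, equivariant_of_genMove jf e hdet φ hφ⟩, fun i => Iso.ext (key i), ?_⟩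
  intro α hα
  have : α.iso.hom = φ := hdet _ _ _ _ fun i => by
    rw [← cu_naturality, ← cu_naturality, key i, ← hα i]
    rfl
  obtain ⟨αi, αc⟩ := α
  congr 1
  exact Iso.ext this

end Groth.TorsProper.Family
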