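import Mathlib
import Groth.Agent.TorsProper.Family
import Groth.Agent.EtaleAlgebra.GlueMaps

/-!
Beauville–Laszlo glueing of points and of torsor isomorphisms along a derived adic isomorphism.
-/

set_option autoImplicit false
set_option backward.isDefEq.respectTransparency false

universe u

open CategoryTheory CategoryTheory.Limits MonoidalCategory CartesianMonoidalCategory MonObj GrpObj
open AlgebraicGeometry
open scoped TensorProduct

noncomputable section

namespace Groth.TorsProper.Adic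

open Groth.EtaleAlgebra.Glue

attribute [local instance] Algebra.TensorProduct.rightAlgebra

variable {A A' : Type u} [CommRing A] [CommRing A'] [Algebra A A'] {t : A}

theorem isGlueingPair_of_adic
    (hq : ∀ m : ℕ, Function.Bijective (Ideal.quotientMap
      (Ideal.map (algebraMap A A') (Ideal.span {t} ^ m)) (algebraMap A A') Ideal.le_comap_map))
    (htor : ∀ a' : A', (∃ m : ℕ, algebraMap A A' t ^ m * a' = 0) →
      ∃! a : A, (∃ m : ℕ, t ^ m * a = 0) ∧ algebraMap A A' a = a') :
    EtGlue.IsGlueingPair A A' t := by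
  refine isGlueingPair_of (fun n _ => ?_) (fun x hx h0 => ?_) (fun x' hx => ?_)
  · have key : ∀ (I : Ideal A), I = Ideal.span {t ^ n} → Function.Bijective
        (Ideal.quotientMap (Ideal.map (algebraMap A A') I) (algebraMap A A') Ideal.le_comap_map) →
        Function.Bijective (Ideal.quotientMap (Ideal.map (algebraMap A A') (Ideal.span {t ^ n}))
          (algebraMap A A') Ideal.le_comap_map) := by
      rintro I rfl h; exact h
    exact key _ (Ideal.span_singleton_pow t n) (hq n)
  · obtain ⟨n, hn⟩ := hx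
    obtain ⟨a, -, ha⟩ := htor 0 ⟨0, by simp⟩
    exact (ha x ⟨⟨n, hn⟩, h0⟩).trans (ha 0 ⟨⟨0, by simp⟩, map_zero _⟩).symm
  · obtain ⟨n, hn⟩ := hx
    obtain ⟨a, ⟨⟨k, hk⟩, ha⟩, -⟩ := htor x' ⟨n, by rwa [Algebra.smul_def, map_pow] at hn⟩
    exact ⟨a, ⟨k, hk⟩, ha⟩

variable (C : Type u) [CommRing C] [Algebra A C] [Module.Flat A C]

theorem torsInj_of_flat (h : EtGlue.IsGlueingPair A A' t) : TorsInj A A' t C := by
  intro m ⟨n, hn⟩ h0
  let j : A →ₗ[A] A' × Localization.Away t :=
    (Algebra.linearMap A A').prod (Algebra.linearMap A (Localization.Away t))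
  have hι : Function.Injective (j.rTensor C) :=
    Module.Flat.rTensor_preserves_injective_linearMap j h.2.1
  suffices h1 : (1 : A) ⊗ₜ[A] m = (0 : A ⊗[A] C) by
    simpa using congrArg (TensorProduct.lid A C) h1
  apply hι
  rw [map_zero, LinearMap.rTensor_tmul]
  apply (TensorProduct.prodLeft A A A' (Localization.Away t) C).injective
  rw [map_zero, TensorProduct.prodLeft_tmul]
  refine Prod.ext ?_ ?_
  · show algebraMap A A' 1 ⊗ₜ[A] m = 0
    rw [map_one]; exact h0
  · show algebraMap A (Localization.Away t) 1 ⊗ₜ[A] m = 0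
    have hu := (IsLocalization.Away.algebraMap_isUnit (S := Localization.Away t) t).pow n
    obtain ⟨v, hv⟩ := hu
    have e1 : (1 : Localization.Away t) = t ^ n • (↑v⁻¹ : Localization.Away t) := by
      rw [Algebra.smul_def, map_pow, ← hv, Units.mul_inv]
    rw [map_one, e1, TensorProduct.smul_tmul, hn, TensorProduct.tmul_zero]

variable (t A') in
/-- `t` in `C`. -/
abbrev tC : C := algebraMap A C t

theorem isGlueingPair_C (h : EtGlue.IsGlueingPair A A' t) :
    EtGlue.IsGlueingPair C (A' ⊗[A] C) (algebraMap A C t) :=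
  isGlueingPair_algebra C h (torsInj_of_flat C h)

theorem isSTD_specMap {R S : Type u} [CommRing R] [CommRing S] (ψ : R →+* S)
    (hψ : Function.Injective ψ) : IsSchemeTheoreticallyDominant (Spec.map (CommRingCat.ofHom ψ)) := by
  refine ⟨Scheme.IdealSheafData.ext_of_isAffine ?_⟩
  rw [Scheme.Hom.ker_apply, Scheme.IdealSheafData.ideal_bot, Pi.bot_apply, ← RingHom.injective_iff_ker_eq_bot]
  exact ((MorphismProperty.injective CommRingCat).arrow_mk_iso_iff
    (arrowIsoΓSpecOfIsAffine (CommRingCat.ofHom ψ))).mp hψ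

/-- Maps out of `Spec C` to a separated scheme are determined on `Spec C_t` and `Spec (A' ⊗ C)`. -/
theorem hom_ext (h : EtGlue.IsGlueingPair A A' t) {Q S : Scheme.{u}} (q : Q ⟶ S) [IsSeparated q]
    {u v : Spec (CommRingCat.of C) ⟶ Q} (huv : u ≫ q = v ≫ q)
    (h1 : Spec.map (CommRingCat.ofHom (algebraMap C (Localization.Away (algebraMap A C t)))) ≫ u =
      Spec.map (CommRingCat.ofHom (algebraMap C (Localization.Away (algebraMap A C t)))) ≫ v)
    (h2 : Spec.map (CommRingCat.ofHom (algebraMap C (A' ⊗[A] C))) ≫ u =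
      Spec.map (CommRingCat.ofHom (algebraMap C (A' ⊗[A] C))) ≫ v) : u = v := by
  let ψ : C →+* (A' ⊗[A] C) × Localization.Away (algebraMap A C t) :=
    (algebraMap C (A' ⊗[A] C)).prod (algebraMap C _)
  haveI := isSTD_specMap ψ (isGlueingPair_C C h).2.1
  refine Groth.GrpschAbsch.ext_of_isSchemeTheoreticallyDominant q huv (Spec.map (CommRingCat.ofHom ψ)) ?_
  rw [← cancel_epi (coprodSpec (A' ⊗[A] C) (Localization.Away (algebraMap A C t)))]
  apply coprod.hom_ext
  · rw [coprodSpec_inl_assoc, coprodSpec_inl_assoc, ← Category.assoc, ← Category.assoc, ← Spec.map_comp]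
    exact h2
  · rw [coprodSpec_inr_assoc, coprodSpec_inr_assoc, ← Category.assoc, ← Category.assoc, ← Spec.map_comp]
    exact h1

/-- Compatible maps from `Spec C_t` and `Spec (A' ⊗ C)` to a quasi-affine `A`-scheme glue. -/
theorem exists_glue_point (h : EtGlue.IsGlueingPair A A' t) {X : Over (Spec (CommRingCat.of A))}
    [X.left.IsQuasiAffine]
    (u₁ : Spec (CommRingCat.of (Localization.Away (algebraMap A C t))) ⟶ X.left)
    (u₂ : Spec (CommRingCat.of (A' ⊗[A] C)) ⟶ X.left)
    (h₁ : u₁ ≫ X.hom = Spec.map (CommRingCat.ofHom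
      (algebraMap C (Localization.Away (algebraMap A C t)))) ≫ Spec.map (CommRingCat.ofHom (algebraMap A C)))
    (h₂ : u₂ ≫ X.hom = Spec.map (CommRingCat.ofHom (algebraMap C (A' ⊗[A] C))) ≫
      Spec.map (CommRingCat.ofHom (algebraMap A C)))
    (h₁₂ : Spec.map (CommRingCat.ofHom (Localization.awayMap (algebraMap C (A' ⊗[A] C)) (algebraMap A C t))) ≫ u₁ =
      Spec.map (CommRingCat.ofHom (algebraMap (A' ⊗[A] C)
        (Localization.Away (algebraMap C (A' ⊗[A] C) (algebraMap A C t))))) ≫ u₂) :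
    ∃ u : Spec (CommRingCat.of C) ⟶ X.left, u ≫ X.hom = Spec.map (CommRingCat.ofHom (algebraMap A C)) ∧
      Spec.map (CommRingCat.ofHom (algebraMap C (Localization.Away (algebraMap A C t)))) ≫ u = u₁ ∧
      Spec.map (CommRingCat.ofHom (algebraMap C (A' ⊗[A] C))) ≫ u = u₂ := by
  have hC := isGlueingPair_C C h
  let Γ₀ := Γ(X.left, ⊤)
  let ψ₁ := Spec.preimage (u₁ ≫ X.left.toSpecΓ)
  let ψ₂ := Spec.preimage (u₂ ≫ X.left.toSpecΓ)
  have hψ : ψ₁ ≫ CommRingCat.ofHom (Localization.awayMap (algebraMap C (A' ⊗[A] C)) (algebraMap A C t)) =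
      ψ₂ ≫ CommRingCat.ofHom (algebraMap (A' ⊗[A] C)
        (Localization.Away (algebraMap C (A' ⊗[A] C) (algebraMap A C t)))) := by
    apply Spec.map_injective
    rw [Spec.map_comp, Spec.map_comp, Spec.map_preimage, Spec.map_preimage, ← Category.assoc, h₁₂,
      Category.assoc]
  choose r hr₂ hr₁ using fun x : Γ₀ => hC.2.2.1 (ψ₂.hom x) (ψ₁.hom x)
    (congr($(hψ).hom x)).symm
  have hinj : ∀ a b : C, algebraMap C (A' ⊗[A] C) a = algebraMap C (A' ⊗[A] C) b →
      algebraMap C (Localization.Away (algebraMap A C t)) a =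
        algebraMap C (Localization.Away (algebraMap A C t)) b → a = b :=
    fun a b e1 e2 => hC.2.1 (Prod.ext e1 e2)
  let ψ : Γ₀ ⟶ CommRingCat.of C := CommRingCat.ofHom
    { toFun := r
      map_one' := hinj _ _ (by simp [hr₂]) (by simp [hr₁])
      map_zero' := hinj _ _ (by simp [hr₂]) (by simp [hr₁])
      map_mul' := fun a b => hinj _ _ (by simp [hr₂]) (by simp [hr₁])
      map_add' := fun a b => hinj _ _ (by simp [hr₂]) (by simp [hr₁]) }
  have e₁ : Spec.map (CommRingCat.ofHom (algebraMap C (Localization.Away (algebraMap A C t)))) ≫ Spec.map ψ =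
      u₁ ≫ X.left.toSpecΓ := by
    rw [← Spec.map_comp, ← Spec.map_preimage (u₁ ≫ X.left.toSpecΓ)]
    congr 1
    ext x
    exact hr₁ x
  have e₂ : Spec.map (CommRingCat.ofHom (algebraMap C (A' ⊗[A] C))) ≫ Spec.map ψ =
      u₂ ≫ X.left.toSpecΓ := by
    rw [← Spec.map_comp, ← Spec.map_preimage (u₂ ≫ X.left.toSpecΓ)]
    congr 1
    ext x
    exact hr₂ x
  have hrange : Set.range (Spec.map ψ) ⊆ Set.range X.left.toSpecΓ := by
    rintro _ ⟨(q : PrimeSpectrum C), rfl⟩
    by_cases hq : algebraMap A C t ∈ q.asIdeal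
    · have hb := hC.1 1 one_pos
      let e := RingEquiv.ofBijective _ hb
      have hle : Ideal.span {algebraMap A C t ^ 1} ≤ q.asIdeal := by
        rw [pow_one, Ideal.span_le, Set.singleton_subset_iff]; exact hq
      let χ : (A' ⊗[A] C) →+* C ⧸ q.asIdeal :=
        ((Ideal.Quotient.factor hle).comp e.symm.toRingHom).comp (Ideal.Quotient.mk _)
      haveI : (RingHom.ker χ).IsPrime := RingHom.ker_isPrime χ
      have hcomap : PrimeSpectrum.comap (algebraMap C (A' ⊗[A] C)) ⟨RingHom.ker χ, inferInstance⟩ = q := by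
        ext c
        simp only [PrimeSpectrum.comap_asIdeal, Ideal.mem_comap, RingHom.mem_ker]
        have : χ (algebraMap C (A' ⊗[A] C) c) = Ideal.Quotient.mk q.asIdeal c := by
          simp only [χ, RingHom.comp_apply]
          have he : e (Ideal.Quotient.mk (Ideal.span {algebraMap A C t ^ 1}) c) =
              Ideal.Quotient.mk (Ideal.map (algebraMap C (A' ⊗[A] C)) (Ideal.span {algebraMap A C t ^ 1}))
                (algebraMap C (A' ⊗[A] C) c) :=
            Ideal.quotientMap_mk (H := Ideal.le_comap_map)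
          rw [← he]
          simp
        rw [this, Ideal.Quotient.eq_zero_iff_mem]
      refine ⟨u₂ ⟨RingHom.ker χ, inferInstance⟩, ?_⟩
      rw [← Scheme.Hom.comp_apply, ← e₂, Scheme.Hom.comp_apply]
      exact congrArg (Spec.map ψ) hcomap
    · obtain ⟨q₁, rfl⟩ : q ∈ Set.range (PrimeSpectrum.comap
          (algebraMap C (Localization.Away (algebraMap A C t)))) := by
        rw [PrimeSpectrum.localization_away_comap_range _ (algebraMap A C t)]; exact hq
      refine ⟨u₁ q₁, ?_⟩
      rw [← Scheme.Hom.comp_apply, ← e₁, Scheme.Hom.comp_apply]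
      rfl
  let u := IsOpenImmersion.lift X.left.toSpecΓ (Spec.map ψ) hrange
  have hu : u ≫ X.left.toSpecΓ = Spec.map ψ := IsOpenImmersion.lift_fac _ _ _
  have hu₁ : Spec.map (CommRingCat.ofHom (algebraMap C (Localization.Away (algebraMap A C t)))) ≫ u = u₁ := by
    rw [← cancel_mono X.left.toSpecΓ, Category.assoc, hu, e₁]
  have hu₂ : Spec.map (CommRingCat.ofHom (algebraMap C (A' ⊗[A] C))) ≫ u = u₂ := by
    rw [← cancel_mono X.left.toSpecΓ, Category.assoc, hu, e₂]
  refine ⟨u, ?_, hu₁, hu₂⟩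
  refine hom_ext C h (Q := Spec (CommRingCat.of A)) (terminal.from _)
    (terminal.hom_ext _ _) ?_ ?_
  · rw [reassoc_of% hu₁, h₁]
  · rw [reassoc_of% hu₂, h₂]

end Groth.TorsProper.Adic
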