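import Mathlib
import Groth.Agent.TorsProper.GlueAdic
import Groth.Agent.AlgSp2.SmoothDescent
import Groth.Agent.AlgSpBasic.Topology
import Groth.Agent.EtaleBase.FpqcDescent

/-!
Glueing of isomorphisms of torsors along a derived adic isomorphism.
-/

set_option autoImplicit false
set_option backward.isDefEq.respectTransparency false

universe u

open CategoryTheory CategoryTheory.Limits MonoidalCategory CartesianMonoidalCategory MonObj GrpObj
open AlgebraicGeometry
open scoped TensorProduct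

noncomputable section

namespace Groth.TorsProper.Adic

attribute [local instance] Algebra.TensorProduct.rightAlgebra

/-- A scheme with fppf-local sections has a section over an affine faithfully flat cover. -/
theorem exists_affine_section {S : Scheme.{u}} [CompactSpace S] {X : Over S}
    (hX : NonAbH1.IsLocallyTrivialFor Scheme.fppfPrecoverage X) :
    ∃ (W : Scheme.{u}) (_ : IsAffine W) (h : W ⟶ S), Surjective h ∧ Flat h ∧
      ∃ s : W ⟶ X.left, s ≫ X.hom = h := by
  classical
  obtain ⟨R, hR, hsec⟩ := hX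
  have hpt : ∀ y : S, ∃ (U : Scheme.{u}) (_ : IsAffine U) (f : U ⟶ S) (_ : Flat f)
      (_ : LocallyOfFinitePresentation f), y ∈ Set.range f ∧ ∃ s : U ⟶ X.left, s ≫ X.hom = f := by
    intro y
    obtain ⟨Y, g, hg, y', rfl⟩ := hR.1 y
    obtain @⟨S', f, hf⟩ := hg
    obtain ⟨h1, h2⟩ := hR.2 hf
    haveI : Flat f := h1
    haveI : LocallyOfFinitePresentation f := h2
    obtain ⟨s, hs⟩ := hsec f hf
    obtain ⟨_, ⟨O : S'.Opens, hO, rfl⟩, hyO, -⟩ :=
      S'.isBasis_affineOpens.exists_subset_of_mem_open (Set.mem_univ y') isOpen_univ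
    exact ⟨O, hO, O.ι ≫ f, inferInstance, inferInstance, ⟨⟨y', hyO⟩, rfl⟩, O.ι ≫ s, by
      rw [Category.assoc, hs]⟩
  choose U hU f hf hfp hy s hs using hpt
  obtain ⟨F, hF⟩ := isCompact_univ.elim_finite_subcover (fun y => Set.range (f y))
    (fun y => by haveI := hf y; haveI := hfp y; exact (f y).isOpenMap.isOpen_range)
    (fun y _ => Set.mem_iUnion.2 ⟨y, hy y⟩)
  haveI : ∀ y : F, IsAffine (U y) := fun y => hU y
  refine ⟨∐ fun y : F => U y, inferInstance, Sigma.desc fun y => f y, ⟨fun y => ?_⟩,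
    IsZariskiLocalAtSource.sigmaDesc (P := @Flat) fun y => hf y, Sigma.desc fun y => s y,
    Sigma.hom_ext _ _ fun y => by simp [hs]⟩
  obtain ⟨z, hz, a, ha⟩ := Set.mem_iUnion₂.1 (hF (Set.mem_univ y))
  exact ⟨Sigma.ι (fun y : F => U y) ⟨z, hz⟩ a, by
    rw [← Scheme.Hom.comp_apply, Sigma.ι_desc]; exact ha⟩

/-- Two schemes with fppf-local sections over an affine base have sections over a common faithfully
flat algebra. -/
theorem exists_cover {A : Type u} [CommRing A] {X X' : Over (Spec (CommRingCat.of A))}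
    (hX : NonAbH1.IsLocallyTrivialFor Scheme.fppfPrecoverage X)
    (hX' : NonAbH1.IsLocallyTrivialFor Scheme.fppfPrecoverage X') :
    ∃ (C : Type u) (_ : CommRing C) (_ : Algebra A C) (_ : Module.Flat A C),
      Surjective (Spec.map (CommRingCat.ofHom (algebraMap A C))) ∧
      (∃ x : Spec (CommRingCat.of C) ⟶ X.left, x ≫ X.hom = Spec.map (CommRingCat.ofHom (algebraMap A C))) ∧
      ∃ x : Spec (CommRingCat.of C) ⟶ X'.left, x ≫ X'.hom = Spec.map (CommRingCat.ofHom (algebraMap A C)) := by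
  obtain ⟨W, _, h, _, _, s, hs⟩ := exists_affine_section hX
  obtain ⟨W', _, h', _, _, s', hs'⟩ := exists_affine_section hX'
  haveI : IsAffine (pullback h h') := inferInstance
  let T : Scheme.{u} := pullback h h'
  let p : T ⟶ Spec (CommRingCat.of A) := pullback.fst h h' ≫ h
  let ψ := Spec.preimage (T.isoSpec.inv ≫ p)
  have hψ : Spec.map ψ = T.isoSpec.inv ≫ p := Spec.map_preimage _
  haveI : Surjective p := inferInstanceAs (Surjective (pullback.fst h h' ≫ h))
  haveI : Flat p := inferInstanceAs (Flat (pullback.fst h h' ≫ h))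
  letI : Algebra A Γ(T, ⊤) := ψ.hom.toAlgebra
  have hflat : Flat (Spec.map ψ) := hψ ▸ inferInstance
  refine ⟨Γ(T, ⊤), inferInstance, inferInstance, (HasRingHomProperty.Spec_iff (P := @Flat)).1 hflat, ?_,
    ⟨T.isoSpec.inv ≫ pullback.fst h h' ≫ s, ?_⟩, ⟨T.isoSpec.inv ≫ pullback.snd h h' ≫ s', ?_⟩⟩
  · show Surjective (Spec.map ψ)
    rw [hψ]; infer_instance
  · show _ = Spec.map ψ
    rw [hψ, Category.assoc, Category.assoc, hs]
  · show _ = Spec.map ψ
    rw [hψ, Category.assoc, Category.assoc, hs', ← pullback.condition]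

section Points

variable {S U : Scheme.{u}} (j : U ⟶ S)

theorem comp_eq_of_cu {Y Q : Over S} {a b : Y ⟶ Q} (h : cu j Y ≫ a = cu j Y ≫ b) {W : Scheme.{u}}
    (g : W ⟶ U) (w : W ⟶ Y.left) (hw : w ≫ Y.hom = g ≫ j) : w ≫ a.left = w ≫ b.left := by
  let z : (Over.map j).obj (Over.mk g) ⟶ Y := Over.homMk w hw
  have : z ≫ a = z ≫ b := by rw [← map_he_cu j z, Category.assoc, Category.assoc, h]
  exact congrArg CommaMorphism.left this

theorem he_left_fst {Z : Over U} {Y : Over S} (z : (Over.map j).obj Z ⟶ Y) :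
    (he j Z Y z).left ≫ pullback.fst Y.hom j = z.left :=
  congrArg CommaMorphism.left (map_he_cu j z)

theorem he_left_snd {Z : Over U} {Y : Over S} (z : (Over.map j).obj Z ⟶ Y) :
    (he j Z Y z).left ≫ pullback.snd Y.hom j = Z.hom :=
  Over.w (he j Z Y z)

variable {G P Q : Over S} [GrpObj G] {a : AlgGrp.Action G P} {b : AlgGrp.Action G Q}
  (e : NonAbH1.EquivIso (a.bc j) (b.bc j))

theorem genMove_left {Z : Over U} (z : (Over.map j).obj Z ⟶ P) :
    (genMove j e z).left = (he j Z P z ≫ e.iso.hom).left ≫ pullback.fst Q.hom j := by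
  rw [← he_left_fst j (genMove j e z), genMove, Equiv.apply_symm_apply]

theorem isIso_he_of_isPullback {T : Over S} {Z : Over U} (w : (Over.map j).obj Z ⟶ T)
    (h : IsPullback w.left Z.hom T.hom j) : IsIso (he j Z T w) := by
  haveI : IsIso (he j Z T w).left := by
    have : (he j Z T w).left = h.isoPullback.hom := pullback.hom_ext
      (by rw [he_left_fst, h.isoPullback_hom_fst]) (by rw [he_left_snd, h.isoPullback_hom_snd])
    rw [this]; infer_instance
  haveI : IsIso ((Over.forget U).map (he j Z T w)) := by assumption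
  exact isIso_of_reflects_iso _ (Over.forget U)

theorem genMove_cu_of_isPullback {T : Over S} {Z : Over U} (w : (Over.map j).obj Z ⟶ T)
    (h : IsPullback w.left Z.hom T.hom j) (x : T ⟶ P) (y : T ⟶ Q)
    (hxy : genMove j e (w ≫ x) = w ≫ y) : genMove j e (cu j T ≫ x) = cu j T ≫ y := by
  haveI := isIso_he_of_isPullback j w h
  rwa [← map_he_cu j w, Category.assoc, Category.assoc, genMove_nat, cancel_epi] at hxy

end Points

/-- Isomorphisms agreeing on a common base move points in the same way. -/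
theorem genMove_compat {S U₁ U₂ U₁₂ : Scheme.{u}} (j₁ : U₁ ⟶ S) (j₂ : U₂ ⟶ S) (k₁ : U₁₂ ⟶ U₁)
    (k₂ : U₁₂ ⟶ U₂) (h : k₁ ≫ j₁ = k₂ ≫ j₂) {G P Q : Over S} [GrpObj G] {a : AlgGrp.Action G P}
    {b : AlgGrp.Action G Q} (e₁ : NonAbH1.EquivIso (a.bc j₁) (b.bc j₁))
    (e₂ : NonAbH1.EquivIso (a.bc j₂) (b.bc j₂))
    (hagree : (NonAbH1.EquivIso.bc k₁ e₁).iso.hom ≫ (ActBC.bcCompIso k₁ j₁ Q h).hom =
      (ActBC.bcCompIso k₁ j₁ P h).hom ≫ (ActBC.bcCompIso k₂ j₂ P rfl).inv ≫
        (NonAbH1.EquivIso.bc k₂ e₂).iso.hom ≫ (ActBC.bcCompIso k₂ j₂ Q rfl).hom)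
    {W : Scheme.{u}} (c : W ⟶ U₁₂) (p : W ⟶ P.left)
    (z₁ : (Over.map j₁).obj (Over.mk (c ≫ k₁)) ⟶ P) (hz₁ : z₁.left = p)
    (z₂ : (Over.map j₂).obj (Over.mk (c ≫ k₂)) ⟶ P) (hz₂ : z₂.left = p) :
    (genMove j₁ e₁ z₁).left = (genMove j₂ e₂ z₂).left := by
  let q₁ := he j₁ (Over.mk (c ≫ k₁)) P z₁
  let q₂ := he j₂ (Over.mk (c ≫ k₂)) P z₂
  let r₁ : W ⟶ pullback (pullback.snd P.hom j₁) k₁ := pullback.lift q₁.left c (he_left_snd j₁ z₁)
  let r₂ : W ⟶ pullback (pullback.snd P.hom j₂) k₂ := pullback.lift q₂.left c (he_left_snd j₂ z₂)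
  have hr : r₁ ≫ (ActBC.bcCompIso k₁ j₁ P h).hom.left = r₂ ≫ (ActBC.bcCompIso k₂ j₂ P rfl).hom.left := by
    apply pullback.hom_ext
    · rw [Category.assoc, Category.assoc, ActBC.bcCompIso_hom_left_fst, ActBC.bcCompIso_hom_left_fst]
      erw [pullback.lift_fst_assoc, pullback.lift_fst_assoc]
      exact (he_left_fst j₁ z₁).trans (hz₁.trans (hz₂.symm.trans (he_left_fst j₂ z₂).symm))
    · rw [Category.assoc, Category.assoc, ActBC.bcCompIso_hom_left_snd, ActBC.bcCompIso_hom_left_snd]
      exact (pullback.lift_snd _ _ _).trans (pullback.lift_snd _ _ _).symm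
  have hr' : r₁ ≫ (ActBC.bcCompIso k₁ j₁ P h).hom.left ≫ (ActBC.bcCompIso k₂ j₂ P rfl).inv.left = r₂ := by
    rw [reassoc_of% hr, ← Over.comp_left, Iso.hom_inv_id, Over.id_left]
    exact Category.comp_id _
  have hkey := congrArg (fun m => r₁ ≫ CommaMorphism.left m ≫ pullback.fst Q.hom (k₂ ≫ j₂)) hagree
  simp only [Over.comp_left, Category.assoc, ActBC.bcCompIso_hom_left_fst] at hkey
  rw [reassoc_of% hr'] at hkey
  have hb₁ : (NonAbH1.EquivIso.bc k₁ e₁).iso.hom.left ≫ pullback.fst (pullback.snd Q.hom j₁) k₁ =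
      pullback.fst (pullback.snd P.hom j₁) k₁ ≫ e₁.iso.hom.left :=
    ActBC.pullback_map_left_fst k₁ e₁.iso.hom
  have hb₂ : (NonAbH1.EquivIso.bc k₂ e₂).iso.hom.left ≫ pullback.fst (pullback.snd Q.hom j₂) k₂ =
      pullback.fst (pullback.snd P.hom j₂) k₂ ≫ e₂.iso.hom.left :=
    ActBC.pullback_map_left_fst k₂ e₂.iso.hom
  erw [reassoc_of% hb₁, reassoc_of% hb₂] at hkey
  rw [genMove_left, genMove_left, Over.comp_left, Over.comp_left, Category.assoc, Category.assoc]
  simp only [r₁, r₂, pullback.lift_fst_assoc] at hkey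
  exact hkey

section

variable {A A' : Type u} [CommRing A] [CommRing A'] [Algebra A A'] (t : A)

variable (A') in
/-- The two bases. -/
def Uf : Bool → Scheme.{u}
  | true => Spec (CommRingCat.of (Localization.Away t))
  | false => Spec (CommRingCat.of A')

variable (A') in
/-- Their structure maps. -/
def jf : ∀ i, Uf A' t i ⟶ Spec (CommRingCat.of A)
  | true => Spec.map (CommRingCat.ofHom (algebraMap A (Localization.Away t)))
  | false => Spec.map (CommRingCat.ofHom (algebraMap A A'))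

theorem specMap_awayMap {B : Type u} [CommRing B] (ψ : A →+* B) :
    Spec.map (CommRingCat.ofHom (Localization.awayMap ψ t)) ≫
        Spec.map (CommRingCat.ofHom (algebraMap A (Localization.Away t))) =
      Spec.map (CommRingCat.ofHom (algebraMap B (Localization.Away (ψ t)))) ≫ Spec.map (CommRingCat.ofHom ψ) := by
  rw [← Spec.map_comp, ← Spec.map_comp, ← CommRingCat.ofHom_comp, ← CommRingCat.ofHom_comp]
  congr 2
  exact IsLocalization.map_comp _

variable (C : Type u) [CommRing C] [Algebra A C]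

theorem specMap_tensor :
    Spec.map (CommRingCat.ofHom (algebraMap A' (A' ⊗[A] C))) ≫ Spec.map (CommRingCat.ofHom (algebraMap A A')) =
      Spec.map (CommRingCat.ofHom (algebraMap C (A' ⊗[A] C))) ≫ Spec.map (CommRingCat.ofHom (algebraMap A C)) := by
  rw [← Spec.map_comp, ← Spec.map_comp, ← CommRingCat.ofHom_comp, ← CommRingCat.ofHom_comp,
    ← IsScalarTower.algebraMap_eq, ← IsScalarTower.algebraMap_eq]

theorem isPullback_away :
    IsPullback (Spec.map (CommRingCat.ofHom (algebraMap C (Localization.Away (algebraMap A C t)))))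
      (Spec.map (CommRingCat.ofHom (Localization.awayMap (algebraMap A C) t)))
      (Spec.map (CommRingCat.ofHom (algebraMap A C)))
      (Spec.map (CommRingCat.ofHom (algebraMap A (Localization.Away t)))) := by
  haveI : IsLocalization (Submonoid.map (algebraMap A C) (Submonoid.powers t))
      (Localization.Away (algebraMap A C t)) := by
    rw [Submonoid.map_powers]; infer_instance
  exact isPullback_SpecMap_of_isPushout _ _ _ _
    (CommRingCat.isPushout_of_isLocalization (algebraMap A C) (Localization.awayMap (algebraMap A C) t)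
      (IsLocalization.map_comp _) (Submonoid.powers t))

theorem isPullback_tensor :
    IsPullback (Spec.map (CommRingCat.ofHom (algebraMap C (A' ⊗[A] C))))
      (Spec.map (CommRingCat.ofHom (algebraMap A' (A' ⊗[A] C))))
      (Spec.map (CommRingCat.ofHom (algebraMap A C)))
      (Spec.map (CommRingCat.ofHom (algebraMap A A'))) :=
  (isPullback_SpecMap_of_isPushout _ _ _ _ (CommRingCat.isPushout_tensorProduct A A' C)).flip

variable {t}

theorem detects (h : EtGlue.IsGlueingPair A A' t) : Family.Detects (jf A' t) := by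
  intro Y Q _ _ a b hab
  refine Over.OverMorphism.ext (Scheme.Cover.hom_ext Y.left.affineOpenCover.openCover _ _ fun k => ?_)
  show Y.left.affineOpenCover.f k ≫ a.left = Y.left.affineOpenCover.f k ≫ b.left
  let f := Y.left.affineOpenCover.f k
  let ψ := Spec.preimage (f ≫ Y.hom)
  have hψ : Spec.map ψ = f ≫ Y.hom := Spec.map_preimage _
  let C : Type u := Y.left.affineOpenCover.X k
  letI : Algebra A C := ψ.hom.toAlgebra
  have hflat : Flat (Spec.map ψ) := hψ ▸ inferInstance
  haveI : Module.Flat A C := (HasRingHomProperty.Spec_iff (P := @Flat)).1 hflat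
  have hf : f ≫ Y.hom = Spec.map (CommRingCat.ofHom (algebraMap A C)) := hψ.symm
  refine hom_ext C h Q.hom (by rw [Category.assoc, Category.assoc, Over.w, Over.w]) ?_ ?_
  · have := comp_eq_of_cu _ (hab true) (Spec.map (CommRingCat.ofHom (Localization.awayMap (algebraMap A C) t)))
      (Spec.map (CommRingCat.ofHom (algebraMap C (Localization.Away (algebraMap A C t)))) ≫ f)
      (by rw [Category.assoc, hf]; exact (specMap_awayMap t (algebraMap A C)).symm)
    simpa only [Category.assoc] using this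
  · have := comp_eq_of_cu _ (hab false) (Spec.map (CommRingCat.ofHom (algebraMap A' (A' ⊗[A] C))))
      (Spec.map (CommRingCat.ofHom (algebraMap C (A' ⊗[A] C))) ≫ f)
      (by rw [Category.assoc, hf]; exact (specMap_tensor C).symm)
    simpa only [Category.assoc] using this

end

/-- Equivariant isomorphisms over `A_t` and `A'` which agree over `A'_t` glue uniquely. -/
theorem exists_unique_glue {A A' : Type u} [CommRing A] [CommRing A'] [Algebra A A'] {t : A}
    (hp : EtGlue.IsGlueingPair A A' t)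
    (h : Spec.map (CommRingCat.ofHom (Localization.awayMap (algebraMap A A') t)) ≫
        Spec.map (CommRingCat.ofHom (algebraMap A (Localization.Away t))) =
      Spec.map (CommRingCat.ofHom (algebraMap A' (Localization.Away (algebraMap A A' t)))) ≫
        Spec.map (CommRingCat.ofHom (algebraMap A A')))
    (G : Over (Spec (CommRingCat.of A))) [GrpObj G] [Flat G.hom] [G.left.IsQuasiAffine]
    {P Q : Over (Spec (CommRingCat.of A))} {a : AlgGrp.Action G P} {b : AlgGrp.Action G Q}
    (ha : NonAbH1.IsTorsorFor Scheme.fppfPrecoverage a) (hb : NonAbH1.IsTorsorFor Scheme.fppfPrecoverage b)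
    (eU : NonAbH1.EquivIso (a.bc (Spec.map (CommRingCat.ofHom (algebraMap A (Localization.Away t)))))
      (b.bc (Spec.map (CommRingCat.ofHom (algebraMap A (Localization.Away t))))))
    (e' : NonAbH1.EquivIso (a.bc (Spec.map (CommRingCat.ofHom (algebraMap A A'))))
      (b.bc (Spec.map (CommRingCat.ofHom (algebraMap A A')))))
    (hagree : (NonAbH1.EquivIso.bc (Spec.map (CommRingCat.ofHom (Localization.awayMap (algebraMap A A') t))) eU).iso.hom ≫
        (ActBC.bcCompIso _ _ Q h).hom =
      (ActBC.bcCompIso _ _ P h).hom ≫ (ActBC.bcCompIso _ _ P rfl).inv ≫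
        (NonAbH1.EquivIso.bc (Spec.map (CommRingCat.ofHom (algebraMap A' (Localization.Away (algebraMap A A' t))))) e').iso.hom ≫
          (ActBC.bcCompIso _ _ Q rfl).hom) :
    ∃! α : NonAbH1.EquivIso a b,
      (Over.pullback (Spec.map (CommRingCat.ofHom (algebraMap A (Localization.Away t))))).mapIso α.iso = eU.iso ∧
      (Over.pullback (Spec.map (CommRingCat.ofHom (algebraMap A A')))).mapIso α.iso = e'.iso := by
  haveI : IsSeparated G.hom := by
    haveI : G.left.IsSeparated := ⟨by
      rw [← terminal.comp_from G.left.toSpecΓ]; infer_instance⟩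
    exact IsSeparated.of_comp G.hom (terminal.from _)
  haveI : MorphismProperty.IsLocalAtTarget (@IsSeparated.{u}) Scheme.fppfPrecoverage :=
    Groth.AlgSpBasic.isLocalAtTarget_fppf _
  haveI : IsSeparated P.hom := Groth.NeronArea.property_of_isLocallyTrivial a ha.1 @IsSeparated ha.2 ‹_›
  haveI : IsSeparated Q.hom := Groth.NeronArea.property_of_isLocallyTrivial b hb.1 @IsSeparated hb.2 ‹_›
  haveI : Flat P.hom := Groth.NeronArea.property_of_isLocallyTrivial a ha.1 @Flat ha.2 ‹_›
  haveI : Flat Q.hom := Groth.NeronArea.property_of_isLocallyTrivial b hb.1 @Flat hb.2 ‹_›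
  obtain ⟨C, _, _, _, hsurj, ⟨x₀, hx₀⟩, ⟨y₀, hy₀⟩⟩ := exists_cover ha.2 hb.2
  let T : Over (Spec (CommRingCat.of A)) := Over.mk (Spec.map (CommRingCat.ofHom (algebraMap A C)))
  haveI : Surjective T.hom := hsurj
  haveI : Flat T.hom := (HasRingHomProperty.Spec_iff (P := @Flat)).2 (RingHom.flat_algebraMap_iff.2 ‹_›)
  haveI : QuasiCompact T.hom := inferInstanceAs (QuasiCompact (Spec.map _))
  let x : T ⟶ P := Over.homMk x₀ hx₀
  let y₁ : T ⟶ Q := Over.homMk y₀ hy₀
  let jU := Spec.map (CommRingCat.ofHom (algebraMap A (Localization.Away t)))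
  let jA := Spec.map (CommRingCat.ofHom (algebraMap A A'))
  let tC := algebraMap A C t
  let B := A' ⊗[A] C
  let Z₁ : Over (Spec (CommRingCat.of (Localization.Away t))) :=
    Over.mk (Spec.map (CommRingCat.ofHom (Localization.awayMap (algebraMap A C) t)))
  let Z₂ : Over (Spec (CommRingCat.of A')) := Over.mk (Spec.map (CommRingCat.ofHom (algebraMap A' B)))
  let w₁ : (Over.map jU).obj Z₁ ⟶ T :=
    Over.homMk (Spec.map (CommRingCat.ofHom (algebraMap C (Localization.Away tC))))
      (specMap_awayMap t (algebraMap A C)).symm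
  let w₂ : (Over.map jA).obj Z₂ ⟶ T :=
    Over.homMk (Spec.map (CommRingCat.ofHom (algebraMap C B))) (specMap_tensor C).symm
  let v₁ := genMove jU eU (w₁ ≫ x)
  let v₂ := genMove jA e' (w₂ ≫ x)
  let g₁ := Groth.NeronArea.torsorDiv b hb.1 v₁ (w₁ ≫ y₁)
  let g₂ := Groth.NeronArea.torsorDiv b hb.1 v₂ (w₂ ≫ y₁)
  -- the common base
  let Bt := Localization.Away (algebraMap C B tC)
  let a₁ := Spec.map (CommRingCat.ofHom (Localization.awayMap (algebraMap C B) tC))
  let a₂ := Spec.map (CommRingCat.ofHom (algebraMap B Bt))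
  have ha12 : a₁ ≫ Spec.map (CommRingCat.ofHom (algebraMap C (Localization.Away tC))) =
      a₂ ≫ Spec.map (CommRingCat.ofHom (algebraMap C B)) := specMap_awayMap tC (algebraMap C B)
  obtain ⟨ψ, hψ⟩ : ∃ ψ : Localization.Away (algebraMap A A' t) →+* Bt,
      ψ.comp (algebraMap A' _) = (algebraMap B Bt).comp (algebraMap A' B) := by
    have : IsUnit ((algebraMap B Bt).comp (algebraMap A' B) (algebraMap A A' t)) := by
      rw [RingHom.comp_apply, ← IsScalarTower.algebraMap_apply A A' B,
        IsScalarTower.algebraMap_apply A C B]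
      exact IsLocalization.Away.algebraMap_isUnit _
    exact ⟨IsLocalization.Away.lift _ this, IsLocalization.Away.lift_comp _ this⟩
  let c := Spec.map (CommRingCat.ofHom ψ)
  have hc₂ : c ≫ Spec.map (CommRingCat.ofHom (algebraMap A' (Localization.Away (algebraMap A A' t)))) =
      a₂ ≫ Z₂.hom := by
    show _ = _ ≫ Spec.map _
    rw [← Spec.map_comp, ← Spec.map_comp, ← CommRingCat.ofHom_comp, ← CommRingCat.ofHom_comp, hψ]
  have hc₁ : c ≫ Spec.map (CommRingCat.ofHom (Localization.awayMap (algebraMap A A') t)) = a₁ ≫ Z₁.hom := by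
    show _ = _ ≫ Spec.map _
    rw [← Spec.map_comp, ← Spec.map_comp, ← CommRingCat.ofHom_comp, ← CommRingCat.ofHom_comp]
    congr 2
    apply IsLocalization.ringHom_ext (Submonoid.powers t)
    simp only [RingHom.comp_assoc, IsLocalization.map_comp, Localization.awayMap, IsLocalization.Away.map]
    rw [← RingHom.comp_assoc, hψ, ← RingHom.comp_assoc, IsLocalization.map_comp, RingHom.comp_assoc,
      RingHom.comp_assoc, ← IsScalarTower.algebraMap_eq, ← IsScalarTower.algebraMap_eq]
    rw [← IsScalarTower.algebraMap_eq A C B, ← IsScalarTower.algebraMap_eq A B Bt]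
  let D₁ : Over (Spec (CommRingCat.of (Localization.Away t))) := Over.mk (a₁ ≫ Z₁.hom)
  let D₂ : Over (Spec (CommRingCat.of A')) := Over.mk (a₂ ≫ Z₂.hom)
  have hD : a₁ ≫ Z₁.hom ≫ jU = a₂ ≫ Z₂.hom ≫ jA := by
    rw [← Category.assoc, ← hc₁, Category.assoc, h, ← Category.assoc, hc₂, Category.assoc]
  let D : Over (Spec (CommRingCat.of A)) := Over.mk (a₁ ≫ Z₁.hom ≫ jU)
  let d₁ : D ⟶ (Over.map jU).obj Z₁ := Over.homMk a₁ rfl
  let d₂ : D ⟶ (Over.map jA).obj Z₂ := Over.homMk a₂ hD.symm
  have hd : d₁ ≫ w₁ = d₂ ≫ w₂ := Over.OverMorphism.ext ha12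
  have hv : d₁ ≫ v₁ = d₂ ≫ v₂ := by
    apply Over.OverMorphism.ext
    have h₁ : a₁ ≫ v₁.left = (genMove jU eU ((Over.map jU).map (Over.homMk a₁ : D₁ ⟶ Z₁) ≫ w₁ ≫ x)).left := by
      rw [genMove_nat]; rfl
    have h₂ : a₂ ≫ v₂.left = (genMove jA e' ((Over.map jA).map (Over.homMk a₂ : D₂ ⟶ Z₂) ≫ w₂ ≫ x)).left := by
      rw [genMove_nat]; rfl
    show a₁ ≫ v₁.left = a₂ ≫ v₂.left
    rw [h₁, h₂]
    have key := genMove_compat jU jA _ _ h eU e' hagree c
      (a₁ ≫ w₁.left ≫ x₀)
    revert key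
    rw [hc₁, hc₂]
    intro key
    exact key _ rfl _ ((Category.assoc _ _ _).symm.trans ((congrArg (· ≫ x₀) ha12).trans (Category.assoc _ _ _))).symm
  have hg : d₁ ≫ g₁ = d₂ ≫ g₂ := by
    simp only [g₁, g₂, Groth.NeronArea.torsorDiv]
    rw [comp_lift_assoc, comp_lift_assoc, hv, ← Category.assoc d₁ w₁, hd, Category.assoc]
  obtain ⟨g₀, hg₀, hg1, hg2⟩ := exists_glue_point C hp (X := G) g₁.left g₂.left
    ((Over.w g₁).trans (specMap_awayMap t (algebraMap A C))) ((Over.w g₂).trans (specMap_tensor C))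
    (congrArg CommaMorphism.left hg)
  let g : T ⟶ G := Over.homMk g₀ hg₀
  let y : T ⟶ Q := lift g y₁ ≫ b.act
  have hy : w₁ ≫ y = v₁ ∧ w₂ ≫ y = v₂ := by
    constructor
    · rw [show w₁ ≫ y = (w₁ ≫ lift g y₁) ≫ b.act from (Category.assoc _ _ _).symm, comp_lift,
        show w₁ ≫ g = g₁ from Over.OverMorphism.ext hg1]
      exact Groth.NeronArea.torsorDiv_act b hb.1 _ _
    · rw [show w₂ ≫ y = (w₂ ≫ lift g y₁) ≫ b.act from (Category.assoc _ _ _).symm, comp_lift,
        show w₂ ≫ g = g₂ from Over.OverMorphism.ext hg2]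
      exact Groth.NeronArea.torsorDiv_act b hb.1 _ _
  let e : ∀ i, NonAbH1.EquivIso (a.bc (jf A' t i)) (b.bc (jf A' t i)) := fun i => match i with
    | true => eU
    | false => e'
  obtain ⟨α, hα, huniq⟩ := Family.exists_equivIso (jf A' t) e (detects hp) ha.1 hb.1 T x y (fun i => by
    cases i
    · exact genMove_cu_of_isPullback jA e' w₂ (isPullback_tensor C) x y hy.2.symm
    · exact genMove_cu_of_isPullback jU eU w₁ (isPullback_away t C) x y hy.1.symm)
  refine ⟨α, ⟨hα true, hα false⟩, fun β hβ => huniq β fun i => ?_⟩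
  cases i
  · exact hβ.2
  · exact hβ.1

end Groth.TorsProper.Adic
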