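import Mathlib
import Groth.Agent.TorsProper.Extend

/-!
A torsor over `A` under the base change of an `S`-group, seen through its points over `S`.
-/

set_option autoImplicit false
set_option backward.isDefEq.respectTransparency false

universe u

open CategoryTheory CategoryTheory.Limits MonoidalCategory CartesianMonoidalCategory MonObj GrpObj
open AlgebraicGeometry

noncomputable section

attribute [local instance 10000] CategoryTheory.Hom.group
set_option synthInstance.maxHeartbeats 400000

namespace Groth.TorsProper.PushPts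

variable {S A : Scheme.{u}} {f : A ⟶ S} {G : Over S} [GrpObj G] {X : Over A}
  (a : AlgGrp.Action (Red.bc f G) X)

variable (f X) in
/-- The structure map to `A`. -/
def pr : (Over.map f).obj X ⟶ Over.mk f := Over.homMk X.hom rfl

variable {W : Over S}

/-- A point as an `A`-scheme. -/
abbrev wA (x : W ⟶ (Over.map f).obj X) : Over A := Over.mk (x.left ≫ X.hom)

/-- A point over `A`. -/
abbrev hat (x : W ⟶ (Over.map f).obj X) : wA x ⟶ X := Over.homMk x.left rfl

/-- The identity. -/
abbrev down (x : W ⟶ (Over.map f).obj X) : (Over.map f).obj (wA x) ⟶ W :=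
  Over.homMk (𝟙 W.left) (by
    show 𝟙 W.left ≫ W.hom = (x.left ≫ X.hom) ≫ f
    rw [Category.id_comp, Category.assoc]; exact (Over.w x).symm)

/-- The inverse of `down`. -/
abbrev up (x : W ⟶ (Over.map f).obj X) : W ⟶ (Over.map f).obj (wA x) :=
  Over.homMk (𝟙 W.left) (by
    show 𝟙 W.left ≫ (x.left ≫ X.hom) ≫ f = W.hom
    rw [Category.id_comp, Category.assoc]; exact Over.w x)

theorem up_down (x : W ⟶ (Over.map f).obj X) : up x ≫ down x = 𝟙 W :=
  Over.OverMorphism.ext (Category.id_comp _)

theorem down_up (x : W ⟶ (Over.map f).obj X) : down x ≫ up x = 𝟙 _ :=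
  Over.OverMorphism.ext (Category.id_comp _)

/-- The action on points over `S`. -/
def smul (g : W ⟶ G) (x : W ⟶ (Over.map f).obj X) : W ⟶ (Over.map f).obj X :=
  Over.homMk (lift (he f (wA x) G (down x ≫ g)) (hat x) ≫ a.act).left (by
    show _ ≫ X.hom ≫ f = W.hom
    rw [← Category.assoc, Over.w (lift (he f (wA x) G (down x ≫ g)) (hat x) ≫ a.act)]
    exact (Category.assoc _ _ _).trans (Over.w x))

theorem smul_pr (g : W ⟶ G) (x : W ⟶ (Over.map f).obj X) : smul a g x ≫ pr f X = x ≫ pr f X :=
  Over.OverMorphism.ext (Over.w (lift (he f (wA x) G (down x ≫ g)) (hat x) ≫ a.act))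

/-- Computing the action through any test object over `A`. -/
theorem smul_eq {Y : Over A} (i : (Over.map f).obj Y ⟶ W) (g : W ⟶ G) (x : W ⟶ (Over.map f).obj X)
    (x' : Y ⟶ X) (hx : i.left ≫ x.left = x'.left) :
    i.left ≫ (smul a g x).left = (lift (he f Y G (i ≫ g)) x' ≫ a.act).left := by
  let l : Y ⟶ wA x := Over.homMk i.left (by
    show i.left ≫ x.left ≫ X.hom = Y.hom
    rw [← Category.assoc, hx]; exact Over.w x')
  have h1 : x' = l ≫ hat x := Over.OverMorphism.ext hx.symm
  have h2 : i = (Over.map f).map l ≫ down x := Over.OverMorphism.ext (Category.comp_id _).symm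
  conv_rhs => rw [h1, h2, Category.assoc, Adjunction.homEquiv_naturality_left, ← comp_lift, Category.assoc]
  rfl

theorem smul_nat {W' : Over S} (k : W' ⟶ W) (g : W ⟶ G) (x : W ⟶ (Over.map f).obj X) :
    k ≫ smul a g x = smul a (k ≫ g) (k ≫ x) := by
  apply Over.OverMorphism.ext
  have h := smul_eq a (Y := wA (k ≫ x)) (down (k ≫ x) ≫ k) g x (hat (k ≫ x))
    (by simp only [Over.comp_left, Over.homMk_left]; exact congrArg (· ≫ x.left) (Category.id_comp _))
  rw [Category.assoc] at h
  exact ((congrArg (· ≫ (smul a g x).left) (Category.id_comp k.left)).symm.trans h)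

theorem smul_one (x : W ⟶ (Over.map f).obj X) : smul a 1 x = x := by
  apply Over.OverMorphism.ext
  show (lift (he f (wA x) G (down x ≫ 1)) (hat x) ≫ a.act).left = x.left
  let e : wA x ⟶ Red.bc f G := he f (wA x) G 1
  have h1 : e = 1 := by
    have h2 : e = e * e := by
      have := AlgGrp.Action.homEquiv_mul f (1 : (Over.map f).obj (wA x) ⟶ G) 1
      exact (congrArg (he f (wA x) G) (_root_.one_mul (1 : (Over.map f).obj (wA x) ⟶ G))).symm.trans this
    have h3 := congrArg (e⁻¹ * ·) h2
    simp only [inv_mul_cancel, inv_mul_cancel_left] at h3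
    exact h3.symm
  rw [MonObj.comp_one]
  show (lift e (hat x) ≫ a.act).left = x.left
  rw [h1, a.lift_one_act]
  rfl

theorem smul_mul (g g' : W ⟶ G) (x : W ⟶ (Over.map f).obj X) :
    smul a (g * g') x = smul a g (smul a g' x) := by
  apply Over.OverMorphism.ext
  let x₁ := lift (he f (wA x) G (down x ≫ g')) (hat x) ≫ a.act
  have h := smul_eq a (W := W) (Y := wA x) (down x) g (smul a g' x) x₁ (Category.id_comp _)
  refine Eq.trans ?_ ((Category.id_comp _).symm.trans h).symm
  show (lift (he f (wA x) G (down x ≫ (g * g'))) (hat x) ≫ a.act).left = _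
  rw [MonObj.comp_mul]
  show (lift ((Over.mapPullbackAdj f).homEquiv _ _ _) (hat x) ≫ a.act).left = _
  rw [AlgGrp.Action.homEquiv_mul, a.lift_mul_act]

variable {a} (ha : NonAbH1.IsPseudoTorsorSch a)

include ha in
theorem smul_cancel {g g' : W ⟶ G} {x : W ⟶ (Over.map f).obj X} (h : smul a g x = smul a g' x) : g = g' := by
  have h' : lift (he f (wA x) G (down x ≫ g)) (hat x) ≫ a.act =
      lift (he f (wA x) G (down x ≫ g')) (hat x) ≫ a.act :=
    Over.OverMorphism.ext (congrArg (fun z : W ⟶ (Over.map f).obj X => z.left) h)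
  have h2 := (he f (wA x) G).injective (Groth.NeronArea.torsor_cancel a ha _ _ _ h')
  rw [← Category.id_comp g, ← Category.id_comp g', ← up_down x, Category.assoc, Category.assoc, h2]

include ha in
theorem exists_smul_eq {x x' : W ⟶ (Over.map f).obj X} (h : x ≫ pr f X = x' ≫ pr f X) :
    ∃ g : W ⟶ G, smul a g x = x' := by
  let x'' : wA x ⟶ X := Over.homMk x'.left (congrArg CommaMorphism.left h).symm
  refine ⟨up x ≫ (he f (wA x) G).symm (Groth.NeronArea.torsorDiv a ha x'' (hat x)), Over.OverMorphism.ext ?_⟩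
  show (lift _ (hat x) ≫ a.act).left = x'.left
  rw [← Category.assoc (down x), down_up, Category.id_comp, Equiv.apply_symm_apply,
    Groth.NeronArea.torsorDiv_act]
  rfl

variable (a) {B : Scheme.{u}} (k : B ⟶ A) {d : B ⟶ S} (hkd : k ≫ f = d)

/-- A point of the base change of `X` as a point over `S`. -/
def pushPoint {Y : Over B} (y : Y ⟶ Red.bc k X) : (Over.map d).obj Y ⟶ (Over.map f).obj X :=
  Over.homMk (y.left ≫ pullback.fst X.hom k) (by
    show (y.left ≫ pullback.fst X.hom k) ≫ X.hom ≫ f = Y.hom ≫ d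
    rw [← hkd, Category.assoc, pullback.condition_assoc, ← Category.assoc]
    exact congrArg (· ≫ k ≫ f) (Over.w y))

theorem pushPoint_pr_left {Y : Over B} (y : Y ⟶ Red.bc k X) :
    (pushPoint k hkd y).left ≫ X.hom = Y.hom ≫ k := by
  show (y.left ≫ pullback.fst X.hom k) ≫ X.hom = _
  rw [Category.assoc, pullback.condition, ← Category.assoc]
  exact congrArg (· ≫ k) (Over.w y)

theorem pushPoint_injective {Y : Over B} {y y' : Y ⟶ Red.bc k X}
    (h : pushPoint k hkd y = pushPoint k hkd y') : y = y' :=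
  Over.OverMorphism.ext (pullback.hom_ext (congrArg (fun z : (Over.map d).obj Y ⟶ (Over.map f).obj X => z.left) h)
    ((Over.w y).trans (Over.w y').symm))

theorem exists_pushPoint {Y : Over B} (x : (Over.map d).obj Y ⟶ (Over.map f).obj X)
    (hx : x.left ≫ X.hom = Y.hom ≫ k) : ∃ y : Y ⟶ Red.bc k X, pushPoint k hkd y = x :=
  ⟨Over.homMk (pullback.lift x.left Y.hom hx) (pullback.lift_snd _ _ _),
    Over.OverMorphism.ext (pullback.lift_fst _ _ _)⟩

theorem pushPoint_nat {Y Y' : Over B} (l : Y' ⟶ Y) (y : Y ⟶ Red.bc k X) :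
    pushPoint k hkd (l ≫ y) = (Over.map d).map l ≫ pushPoint k hkd y :=
  Over.OverMorphism.ext (Category.assoc _ _ _)

/-- The restricted base-changed action on points. -/
theorem pushPoint_act {Y : Over B} (g : Y ⟶ Red.bc d G) (y : Y ⟶ Red.bc k X) :
    pushPoint k hkd (lift g y ≫ ((a.bc k).restrict (ActBC.bcCompIso k f G hkd).inv).act) =
      smul a ((he d Y G).symm g) (pushPoint k hkd y) := by
  let g₀ := (he k Y (Red.bc f G)).symm (g ≫ (ActBC.bcCompIso k f G hkd).inv)
  let x₀ := (he k Y X).symm y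
  have hg : g ≫ (ActBC.bcCompIso k f G hkd).inv = he k Y (Red.bc f G) g₀ := (Equiv.apply_symm_apply _ _).symm
  have hy : y = he k Y X x₀ := (Equiv.apply_symm_apply _ _).symm
  apply Over.OverMorphism.ext
  rw [AlgGrp.Action.lift_restrict_act, hg, hy, AlgGrp.Action.lift_homEquiv_bc_act]
  show (he k Y X (lift g₀ x₀ ≫ a.act)).left ≫ pullback.fst X.hom k = _
  have hfst : ∀ (z : (Over.map k).obj Y ⟶ X), (he k Y X z).left ≫ pullback.fst X.hom k = z.left :=
    fun z => congrArg CommaMorphism.left (map_he_cu k z)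
  rw [hfst, ← hy]
  let i : (Over.map f).obj ((Over.map k).obj Y) ⟶ (Over.map d).obj Y :=
    Over.homMk (𝟙 Y.left) (by
      show 𝟙 Y.left ≫ Y.hom ≫ d = (Y.hom ≫ k) ≫ f
      rw [Category.id_comp, Category.assoc, hkd])
  have hxl : x₀.left = y.left ≫ pullback.fst X.hom k := by
    rw [hy]; exact (hfst x₀).symm
  have h := smul_eq a i ((he d Y G).symm g) (pushPoint k hkd y) x₀ ((Category.id_comp _).trans hxl.symm)
  refine Eq.trans ?_ (((Category.id_comp _).symm.trans h).symm)
  congr 3
  -- the two group points agree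
  apply (he f _ G).symm.injective
  rw [Equiv.symm_apply_apply]
  apply Over.OverMorphism.ext
  show ((g ≫ (ActBC.bcCompIso k f G hkd).inv).left ≫ pullback.fst _ k) ≫ pullback.fst G.hom f =
    𝟙 Y.left ≫ g.left ≫ pullback.fst G.hom d
  rw [Category.id_comp, Over.comp_left, Category.assoc, Category.assoc]
  congr 1
  rw [← cancel_epi (ActBC.bcCompIso k f G hkd).hom.left, ActBC.bcCompIso_hom_left_fst, ← Category.assoc,
    ← Over.comp_left, Iso.hom_inv_id]
  exact Category.id_comp _

end Groth.TorsProper.PushPts
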