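import Mathlib
import Groth.Agent.TorsProper.Extend

/-!
Two torsors with sections over a cover having the same cocycle are isomorphic.
-/

set_option autoImplicit false
set_option backward.isDefEq.respectTransparency false

universe u

open CategoryTheory CategoryTheory.Limits MonoidalCategory CartesianMonoidalCategory MonObj GrpObj
open AlgebraicGeometry

noncomputable section

namespace Groth.TorsProper.Cocycle

attribute [local instance 10000] CategoryTheory.Hom.group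
set_option synthInstance.maxHeartbeats 400000

variable {B : Scheme.{u}} {G P Q : Over B} [GrpObj G] {a : AlgGrp.Action G P} {b : AlgGrp.Action G Q}
  {T : Over B}

/-- The two sections have the same cocycle. -/
def SameCocycle (a : AlgGrp.Action G P) (b : AlgGrp.Action G Q) (x : T ⟶ P) (y : T ⟶ Q) : Prop :=
  ∀ (Z : Over B) (d₁ d₂ : Z ⟶ T) (g : Z ⟶ G),
    lift g (d₁ ≫ x) ≫ a.act = d₂ ≫ x → lift g (d₁ ≫ y) ≫ b.act = d₂ ≫ y

theorem SameCocycle.symm {x : T ⟶ P} {y : T ⟶ Q} (ha : NonAbH1.IsPseudoTorsorSch a)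
    (hb : NonAbH1.IsPseudoTorsorSch b) (h : SameCocycle a b x y) : SameCocycle b a y x := by
  intro Z d₁ d₂ g hg
  have hg' := Groth.NeronArea.torsorDiv_act a ha (d₂ ≫ x) (d₁ ≫ x)
  rw [Groth.NeronArea.torsor_cancel b hb g _ _ (hg.trans (h Z d₁ d₂ _ hg').symm)]
  exact hg'

theorem exists_hom [Surjective T.hom] [Flat T.hom] [QuasiCompact T.hom]
    (ha : NonAbH1.IsPseudoTorsorSch a) (x : T ⟶ P) (y : T ⟶ Q) (h : SameCocycle a b x y) :
    ∃ φ : P ⟶ Q, a.act ≫ φ = (G ◁ φ) ≫ b.act ∧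
      ∀ {Z : Over B} (p : Z ⟶ P) (t : Z ⟶ T) (g : Z ⟶ G),
        lift g (t ≫ x) ≫ a.act = p → p ≫ φ = lift g (t ≫ y) ≫ b.act := by
  let c : P ⊗ T ⟶ P := fst P T
  haveI : Surjective c.left := inferInstanceAs (Surjective (pullback.fst P.hom T.hom))
  haveI : Flat c.left := inferInstanceAs (Flat (pullback.fst P.hom T.hom))
  haveI : QuasiCompact c.left := inferInstanceAs (QuasiCompact (pullback.fst P.hom T.hom))
  let g₀ := Groth.NeronArea.torsorDiv a ha c (snd P T ≫ x)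
  let ψ : P ⊗ T ⟶ Q := lift g₀ (snd P T ≫ y) ≫ b.act
  obtain ⟨φ, hφ⟩ := exists_desc c ψ fun W d₁ d₂ hd => fun _ => by
    have h1 : ∀ d : W ⟶ P ⊗ T, lift (d ≫ g₀) ((d ≫ snd P T) ≫ x) ≫ a.act = d ≫ c := fun d => by
      rw [Category.assoc d, ← comp_lift_assoc, Groth.NeronArea.torsorDiv_act]
    have h2 : lift ((d₂ ≫ g₀)⁻¹ * (d₁ ≫ g₀)) ((d₁ ≫ snd P T) ≫ x) ≫ a.act = (d₂ ≫ snd P T) ≫ x := by
      rw [a.lift_mul_act, h1, hd, ← h1 d₂, ← a.lift_mul_act, inv_mul_cancel, a.lift_one_act]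
    have h3 := h W _ _ _ h2
    rw [comp_lift_assoc, comp_lift_assoc, ← Category.assoc d₁ (snd P T), ← Category.assoc d₂ (snd P T), ← h3,
      ← b.lift_mul_act, mul_inv_cancel_left]
  have key : ∀ {Z : Over B} (p : Z ⟶ P) (t : Z ⟶ T) (g : Z ⟶ G),
      lift g (t ≫ x) ≫ a.act = p → p ≫ φ = lift g (t ≫ y) ≫ b.act := by
    intro Z p t g hg
    have hl : lift p t ≫ g₀ = g := Groth.NeronArea.torsor_cancel a ha _ _ (t ≫ x) (by
      rw [hg, show t ≫ x = lift p t ≫ snd P T ≫ x by rw [lift_snd_assoc], ← comp_lift_assoc,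
        Groth.NeronArea.torsorDiv_act]
      exact lift_fst p t)
    rw [← lift_fst p t, Category.assoc, hφ, comp_lift_assoc, hl, lift_snd_assoc]
  refine ⟨φ, ?_, key⟩
  let c' : (G ⊗ P) ⊗ T ⟶ G ⊗ P := fst (G ⊗ P) T
  haveI : Surjective c'.left := inferInstanceAs (Surjective (pullback.fst (G ⊗ P).hom T.hom))
  haveI : Flat c'.left := inferInstanceAs (Flat (pullback.fst (G ⊗ P).hom T.hom))
  haveI : QuasiCompact c'.left := inferInstanceAs (QuasiCompact (pullback.fst (G ⊗ P).hom T.hom))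
  haveI : EffectiveEpi c'.left := inferInstance
  haveI : Epi c' := Over.epi_of_epi_left _
  rw [← cancel_epi c']
  let t := snd (G ⊗ P) T
  let g := c' ≫ fst G P
  let p := c' ≫ snd G P
  have hc : c' = lift g p := by rw [← comp_lift, lift_fst_snd, Category.comp_id]
  let g₁ := Groth.NeronArea.torsorDiv a ha p (t ≫ x)
  have hp : lift g₁ (t ≫ x) ≫ a.act = p := Groth.NeronArea.torsorDiv_act a ha _ _
  have e1 := key p t g₁ hp
  have e2 := key (lift g p ≫ a.act) t (g * g₁) (by rw [a.lift_mul_act, hp])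
  rw [hc, ← Category.assoc (lift g p), e2, b.lift_mul_act, lift_whiskerLeft_assoc, e1]

theorem exists_equivIso [Surjective T.hom] [Flat T.hom] [QuasiCompact T.hom]
    (ha : NonAbH1.IsPseudoTorsorSch a) (hb : NonAbH1.IsPseudoTorsorSch b) (x : T ⟶ P) (y : T ⟶ Q)
    (h : SameCocycle a b x y) : Nonempty (NonAbH1.EquivIso a b) := by
  obtain ⟨φ, hφe, hφ⟩ := exists_hom ha x y h
  obtain ⟨ψ, -, hψ⟩ := exists_hom hb y x (h.symm ha hb)
  have inv : ∀ {P₀ Q₀ : Over B} {a₀ : AlgGrp.Action G P₀} {b₀ : AlgGrp.Action G Q₀}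
      (_ : NonAbH1.IsPseudoTorsorSch a₀) (x₀ : T ⟶ P₀) (y₀ : T ⟶ Q₀) (φ₀ : P₀ ⟶ Q₀) (ψ₀ : Q₀ ⟶ P₀),
      (∀ {Z : Over B} (p : Z ⟶ P₀) (t : Z ⟶ T) (g : Z ⟶ G),
        lift g (t ≫ x₀) ≫ a₀.act = p → p ≫ φ₀ = lift g (t ≫ y₀) ≫ b₀.act) →
      (∀ {Z : Over B} (q : Z ⟶ Q₀) (t : Z ⟶ T) (g : Z ⟶ G),
        lift g (t ≫ y₀) ≫ b₀.act = q → q ≫ ψ₀ = lift g (t ≫ x₀) ≫ a₀.act) → φ₀ ≫ ψ₀ = 𝟙 P₀ := by
    intro P₀ Q₀ a₀ b₀ ha₀ x₀ y₀ φ₀ ψ₀ h₁ h₂
    let c : P₀ ⊗ T ⟶ P₀ := fst P₀ T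
    haveI : Surjective c.left := inferInstanceAs (Surjective (pullback.fst P₀.hom T.hom))
    haveI : Flat c.left := inferInstanceAs (Flat (pullback.fst P₀.hom T.hom))
    haveI : QuasiCompact c.left := inferInstanceAs (QuasiCompact (pullback.fst P₀.hom T.hom))
    haveI : EffectiveEpi c.left := inferInstance
    haveI : Epi c := Over.epi_of_epi_left _
    rw [← cancel_epi c, Category.comp_id, ← Category.assoc]
    have hp := Groth.NeronArea.torsorDiv_act a₀ ha₀ c (snd P₀ T ≫ x₀)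
    rw [h₂ (c ≫ φ₀) (snd P₀ T) _ (h₁ c (snd P₀ T) _ hp).symm, hp]
  exact ⟨⟨⟨φ, ψ, inv ha x y φ ψ hφ hψ, inv hb y x ψ φ hψ hφ⟩, hφe⟩⟩

end Groth.TorsProper.Cocycle
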