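import Mathlib
import Groth.Agent.TorsProper.Extend
import Groth.Agent.AlgSpBasic.Topology
import Groth.Agent.EtaleBase.FpqcDescent
import Groth.Agent.AlgSp2.SmoothDescent

/-!
Torsors under proper flat groups over Dedekind domains are determined by their generic fibres.
-/

set_option autoImplicit false
set_option backward.isDefEq.respectTransparency false

universe u

open CategoryTheory CategoryTheory.Limits MonoidalCategory CartesianMonoidalCategory MonObj
open AlgebraicGeometry

noncomputable section

namespace Groth.TorsProper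

/-- A torsor under a proper flat group is proper, flat and surjective. -/
theorem torsor_props {S : Scheme.{u}} {G X : Over S} [GrpObj G] [IsProper G.hom] [Flat G.hom]
    (a : AlgGrp.Action G X) (ha : NonAbH1.IsTorsorFor Scheme.fppfPrecoverage a) :
    IsProper X.hom ∧ Flat X.hom ∧ Surjective X.hom := by
  haveI : MorphismProperty.IsLocalAtTarget (@IsProper.{u}) Scheme.fppfPrecoverage :=
    Groth.AlgSpBasic.isLocalAtTarget_fppf _
  exact ⟨Groth.NeronArea.property_of_isLocallyTrivial a ha.1 @IsProper ha.2 ‹_›,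
    Groth.NeronArea.property_of_isLocallyTrivial a ha.1 @Flat ha.2 ‹_›,
    Groth.NeronArea.surjective_of_isLocallyTrivial ha.2⟩

/-- An isomorphism of the generic fibres of two torsors under a proper flat group extends. -/
theorem nonempty_equivIso_of_generic (R : Type u) [CommRing R] [IsDedekindDomain R]
    {G P Q : Over (Spec (CommRingCat.of R))} [GrpObj G] [IsProper G.hom] [Flat G.hom]
    {a : AlgGrp.Action G P} {b : AlgGrp.Action G Q}
    (ha : NonAbH1.IsTorsorFor Scheme.fppfPrecoverage a) (hb : NonAbH1.IsTorsorFor Scheme.fppfPrecoverage b)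
    (e : NonAbH1.EquivIso (a.bc (Neron.genPt R)) (b.bc (Neron.genPt R))) :
    Nonempty (NonAbH1.EquivIso a b) := by
  obtain ⟨_, _, _⟩ := torsor_props a ha
  obtain ⟨_, _, _⟩ := torsor_props b hb
  obtain ⟨L, R', _, _, _, _, _, _, _, _, _, _, hsurj, hflat, hpb, x₀, hx₀⟩ :=
    exists_integral_cover R P.hom
  let T : Over (Spec (CommRingCat.of R)) := Over.mk (Spec.map (CommRingCat.ofHom (algebraMap R R')))
  haveI : Surjective T.hom := hsurj
  haveI : Flat T.hom := hflat
  haveI : QuasiCompact T.hom :=
    inferInstanceAs (QuasiCompact (Spec.map (CommRingCat.ofHom (algebraMap R R'))))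
  have hLR : Groth.NeronArea.Weil.genMap (R := R') L ≫ T.hom = Spec.map (CommRingCat.ofHom (algebraMap R L)) := by
    show Spec.map _ ≫ Spec.map _ = _
    rw [← Spec.map_comp, ← CommRingCat.ofHom_comp, ← IsScalarTower.algebraMap_eq]
  -- the point of `P` extends
  have hext : ∀ (Y : Over (Spec (CommRingCat.of R))) (_ : IsProper Y.hom)
      (u : Spec (CommRingCat.of L) ⟶ Y.left),
      u ≫ Y.hom = Spec.map (CommRingCat.ofHom (algebraMap R L)) →
      ∃ y : T ⟶ Y, Groth.NeronArea.Weil.genMap (R := R') L ≫ y.left = u := by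
    intro Y _ u hu
    obtain ⟨s, hs1, hs2⟩ := exists_section_extend R' L (pullback.snd Y.hom T.hom)
      (pullback.lift u (Groth.NeronArea.Weil.genMap (R := R') L) (by rw [hu, hLR]))
      (pullback.lift_snd _ _ _)
    refine ⟨Over.homMk (s ≫ pullback.fst _ _) (by
      rw [Category.assoc, pullback.condition, reassoc_of% hs1]), ?_⟩
    show _ ≫ s ≫ pullback.fst _ _ = _
    rw [reassoc_of% hs2, pullback.lift_fst]
  obtain ⟨x, hx⟩ := hext P inferInstance x₀ hx₀
  let p := genMove (Neron.genPt R) e (cu (Neron.genPt R) T ≫ x)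
  let i := hpb.isoPullback
  have hi : i.hom ≫ pullback.fst T.hom (Neron.genPt R) = Groth.NeronArea.Weil.genMap (R := R') L :=
    hpb.isoPullback_hom_fst
  obtain ⟨y, hy⟩ := hext Q inferInstance (i.hom ≫ p.left) (by
    have hw : p.left ≫ Q.hom = pullback.snd T.hom (Neron.genPt R) ≫ Neron.genPt R := Over.w p
    rw [Category.assoc, hw, ← pullback.condition, reassoc_of% hi, hLR])
  have hxy : p = cu (Neron.genPt R) T ≫ y := by
    apply Over.OverMorphism.ext
    rw [← cancel_epi i.hom, ← hy, ← hi, Over.comp_left, Category.assoc]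
    congr 2
  exact exists_equivIso (Neron.genPt R) e ha.1 hb.1 T x y hxy

theorem equivIso_equivalence {S : Scheme.{u}} {G : Over S} [GrpObj G] (K : Precoverage Scheme.{u}) :
    Equivalence fun P Q : NonAbH1.TorsorSch G K => Nonempty (NonAbH1.EquivIso P.act Q.act) where
  refl P := ⟨⟨Iso.refl _, by simp⟩⟩
  symm := fun ⟨f⟩ => ⟨⟨f.iso.symm, by
    rw [← cancel_mono f.iso.hom]
    simp only [Iso.symm_hom, Category.assoc, Iso.inv_hom_id, Category.comp_id, f.comm]
    rw [← whiskerLeft_comp_assoc, Iso.inv_hom_id, MonoidalCategory.whiskerLeft_id, Category.id_comp]⟩⟩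
  trans := fun ⟨f⟩ ⟨f'⟩ => ⟨⟨f.iso ≪≫ f'.iso, by
    rw [Iso.trans_hom, ← Category.assoc, f.comm, Category.assoc, f'.comm, MonoidalCategory.whiskerLeft_comp,
      Category.assoc]⟩⟩

theorem h1Sch_bcMap_genPt_injective (R : Type u) [CommRing R] [IsDedekindDomain R]
    (G : Over (Spec (CommRingCat.of R))) [GrpObj G] [IsProper G.hom] [Flat G.hom] :
    Function.Injective (NonAbH1.H1Sch.bcMap (Neron.genPt R) G Scheme.fppfPrecoverage) := by
  intro x y h
  induction x using Quot.ind with
  | mk P =>
    induction y using Quot.ind with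
    | mk Q =>
      obtain ⟨e⟩ := (equivIso_equivalence _).eqvGen_iff.1 (Quot.eqvGen_exact h)
      exact Quot.sound (nonempty_equivIso_of_generic R P.isTorsor Q.isTorsor e)

theorem hasSectionOver_id_of_genPt (R : Type u) [CommRing R] [IsDedekindDomain R]
    {G P : Over (Spec (CommRingCat.of R))} [GrpObj G] [IsProper G.hom] [Flat G.hom]
    {a : AlgGrp.Action G P} (ha : NonAbH1.IsTorsorFor Scheme.fppfPrecoverage a)
    (h : NonAbH1.HasSectionOver P (Neron.genPt R)) :
    NonAbH1.HasSectionOver P (𝟙 (Spec (CommRingCat.of R))) := by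
  obtain ⟨_, _, _⟩ := torsor_props a ha
  obtain ⟨u, hu⟩ := h
  obtain ⟨s, hs, -⟩ := exists_section_extend R (FractionRing R) P.hom u hu
  exact ⟨s, hs⟩

end Groth.TorsProper
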