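import Mathlib
import Groth.Agent.LocImm.Birational
import Groth.Agent.EtaleBase.NormalEtale
import Groth.Agent.NeronArea.MappingDescent

/-!
Generic points of torsors over normal integral schemes extend to sections.
-/

set_option autoImplicit false
set_option backward.isDefEq.respectTransparency false

universe u

open CategoryTheory CategoryTheory.Limits MonoidalCategory CartesianMonoidalCategory
open AlgebraicGeometry TopologicalSpace

noncomputable section

namespace Groth.TorsProper

/-- A point with values in the function field makes a morphism of integral schemes birational. -/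
theorem birational_of_point {C X : Scheme.{u}} [IsIntegral C] [IsIntegral X] (f : C ⟶ X)
    (c : Spec X.functionField ⟶ C) (hc : c ≫ f = X.fromSpecStalk (genericPoint X))
    (hgen : c (IsLocalRing.closedPoint _) = genericPoint C) :
    f (genericPoint C) = genericPoint X ∧ IsIso (f.stalkMap (genericPoint C)) := by
  have hpt : f (genericPoint C) = genericPoint X := by
    rw [← hgen, ← Scheme.Hom.comp_apply, hc]
    exact Scheme.fromSpecStalk_closedPoint
  refine ⟨hpt, ?_⟩
  let r : C.functionField ⟶ X.functionField :=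
    C.presheaf.stalkSpecializes (specializes_of_eq hgen) ≫ Scheme.stalkClosedPointTo c
  have hr : Spec.map r ≫ C.fromSpecStalk (genericPoint C) = c := by
    rw [Spec.map_comp, Category.assoc, Scheme.SpecMap_stalkSpecializes_fromSpecStalk,
      Scheme.Spec_stalkClosedPointTo_fromSpecStalk]
  haveI : IsIso (X.presheaf.stalkSpecializes (specializes_of_eq hpt.symm)) :=
    (TopCat.Presheaf.stalkCongr X.presheaf (Inseparable.of_eq hpt)).isIso_hom
  let m : X.functionField ⟶ C.functionField :=
    inv (X.presheaf.stalkSpecializes (specializes_of_eq hpt.symm)) ≫ f.stalkMap (genericPoint C)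
  have hmr : Spec.map r ≫ Spec.map (f.stalkMap (genericPoint C)) ≫ X.fromSpecStalk _ =
      X.fromSpecStalk (genericPoint X) := by
    rw [Scheme.SpecMap_stalkMap_fromSpecStalk, ← Category.assoc, hr, hc]
  have h1 : m ≫ r = 𝟙 _ := by
    apply Spec.map_injective
    rw [Spec.map_id, ← cancel_mono (X.fromSpecStalk (genericPoint X)), Category.id_comp]
    conv_rhs => rw [← hmr]
    simp only [m, Spec.map_comp, Category.assoc]
    congr 2
    rw [← cancel_epi (Spec.map (X.presheaf.stalkSpecializes (specializes_of_eq hpt.symm))),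
      Scheme.SpecMap_stalkSpecializes_fromSpecStalk, ← Category.assoc, ← Spec.map_comp, IsIso.inv_hom_id,
      Spec.map_id, Category.id_comp]
  have hb : Function.Bijective r :=
    ⟨r.hom.injective, fun y => ⟨m y, ConcreteCategory.congr_hom h1 y⟩⟩
  haveI : IsIso r := (ConcreteCategory.isIso_iff_bijective _).mpr hb
  haveI : IsIso m := by
    have : m = inv r := IsIso.eq_inv_of_inv_hom_id h1
    rw [this]; infer_instance
  have hm : f.stalkMap (genericPoint C) =
      X.presheaf.stalkSpecializes (specializes_of_eq hpt.symm) ≫ m := by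
    simp [m]
  rw [hm]; infer_instance

/-- A closed or open piece isomorphic to the base gives a section. -/
theorem exists_section_of_isIso {C E X : Scheme.{u}} [IsIntegral X] (i : C ⟶ E) (p : E ⟶ X) [IsIso (i ≫ p)]
    (c : Spec X.functionField ⟶ C) (hc : c ≫ i ≫ p = X.fromSpecStalk (genericPoint X)) :
    ∃ σ : X ⟶ E, σ ≫ p = 𝟙 X ∧ X.fromSpecStalk (genericPoint X) ≫ σ = c ≫ i := by
  refine ⟨inv (i ≫ p) ≫ i, by simp, ?_⟩
  rw [← hc]
  simp

/-- Universally specializing morphisms make generic points of torsors meet every fibre. -/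
theorem exists_specialization {S : Scheme.{u}} [IrreducibleSpace S] {G E : Over S} [GrpObj G]
    (a : AlgGrp.Action G E) (ha : NonAbH1.IsPseudoTorsorSch a)
    (hlt : NonAbH1.IsLocallyTrivialFor Scheme.fppfPrecoverage E)
    (hG : (topologically @SpecializingMap).universally G.hom)
    {K : Type u} [Field K] (x : Spec (CommRingCat.of K) ⟶ E.left) (pt : Spec (CommRingCat.of K))
    (hx : ∀ (T : Scheme.{u}) (f : T ⟶ S) (t : T), f t = genericPoint S →
      ∃ (T₀ : Scheme.{u}) (j : T₀ ⟶ T) (l : T₀ ⟶ Spec (CommRingCat.of K)) (t₀ : T₀),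
        j t₀ = t ∧ l t₀ = pt ∧ l ≫ x ≫ E.hom = j ≫ f)
    (s : S) : ∃ y : E.left, x pt ⤳ y ∧ E.hom y = s := by
  obtain ⟨R, hR, hsec⟩ := hlt
  obtain ⟨S', f, hf, s', hs'⟩ : ∃ (S' : Scheme.{u}) (f : S' ⟶ S), R f ∧ ∃ s', f s' = s := by
    obtain ⟨Y, g, hg, y', hy'⟩ := hR.1 s
    obtain @⟨S', f, hf⟩ := hg
    exact ⟨S', f, hf, y', hy'⟩
  obtain ⟨e, he⟩ := hsec f hf
  haveI : Flat f := (hR.2 hf).1
  obtain ⟨η', hη', hfη'⟩ := Flat.generalizingMap f (show genericPoint S ⤳ f s' from genericPoint_specializes _)
  obtain ⟨T₀, j, l, t₀, hjt, hlt₀, hl⟩ := hx S' f η' hfη'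
  let O : Over S := Over.mk (j ≫ f)
  let x' : O ⟶ E := Over.homMk (l ≫ x) (by show (l ≫ x) ≫ E.hom = j ≫ f; rw [Category.assoc]; exact hl)
  let e' : O ⟶ E := Over.homMk (j ≫ e) (by show (j ≫ e) ≫ E.hom = j ≫ f; rw [Category.assoc, he])
  let g₀ : O ⟶ G := Groth.NeronArea.torsorDiv a ha x' e'
  let W : Over S := Over.mk (pullback.snd G.hom f ≫ f)
  let gW : W ⟶ G := Over.homMk (pullback.fst G.hom f) pullback.condition
  let eW : W ⟶ E := Over.homMk (pullback.snd G.hom f ≫ e) (by
    show (pullback.snd G.hom f ≫ e) ≫ E.hom = pullback.snd G.hom f ≫ f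
    rw [Category.assoc, he])
  let q : W ⟶ E := lift gW eW ≫ a.act
  let w : O ⟶ W := Over.homMk (pullback.lift g₀.left j (Over.w g₀)) (by
    show pullback.lift g₀.left j (Over.w g₀) ≫ pullback.snd G.hom f ≫ f = j ≫ f
    rw [← Category.assoc, pullback.lift_snd])
  have hw : w ≫ q = x' := by
    have h1 : w ≫ gW = g₀ := Over.OverMorphism.ext (pullback.lift_fst _ _ _)
    have h2 : w ≫ eW = e' := Over.OverMorphism.ext (by
      show pullback.lift g₀.left j (Over.w g₀) ≫ pullback.snd G.hom f ≫ e = j ≫ e
      rw [← Category.assoc, pullback.lift_snd])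
    simp only [q]
    rw [← Category.assoc, comp_lift, h1, h2, Groth.NeronArea.torsorDiv_act]
  have hsp : SpecializingMap (pullback.snd G.hom f) :=
    hG _ f _ (IsPullback.of_hasPullback G.hom f).flip
  obtain ⟨w', hww', hw'⟩ := hsp (show pullback.snd G.hom f (w.left t₀) ⤳ s' by
    rw [show pullback.snd G.hom f (w.left t₀) = j t₀ from
      (Scheme.Hom.comp_apply _ _ _).symm.trans (congrArg (fun m => m t₀) (pullback.lift_snd g₀.left j (Over.w g₀))), hjt]
    exact hη')
  refine ⟨q.left w', ?_, ?_⟩
  · have h3 : q.left (w.left t₀) = x pt := by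
      rw [← Scheme.Hom.comp_apply, ← Over.comp_left, hw, ← hlt₀]
      rfl
    exact h3 ▸ hww'.map q.left.continuous
  · rw [← Scheme.Hom.comp_apply, Over.w q]
    show f (pullback.snd G.hom f w') = s
    rw [hw', hs']

theorem subsingleton_functionField (X : Scheme.{u}) [IsIntegral X] : Subsingleton (Spec X.functionField) :=
  inferInstanceAs (Subsingleton (PrimeSpectrum X.functionField))

/-- Points over the generic point lift to the function field point. -/
theorem exists_field_cover (S : Scheme.{u}) [IsIntegral S] {T : Scheme.{u}} (f : T ⟶ S) (t : T)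
    (ht : f t = genericPoint S) :
    ∃ (T₀ : Scheme.{u}) (j : T₀ ⟶ T) (l : T₀ ⟶ Spec S.functionField) (t₀ : T₀),
      j t₀ = t ∧ l t₀ = IsLocalRing.closedPoint _ ∧ l ≫ S.fromSpecStalk (genericPoint S) = j ≫ f := by
  refine ⟨Spec (T.residueField t), T.fromSpecResidueField t,
    Spec.map (S.presheaf.stalkSpecializes (specializes_of_eq ht) ≫ f.stalkMap t ≫ T.residue t),
    IsLocalRing.closedPoint _, T.fromSpecResidueField_apply _ _,
    (subsingleton_functionField S).elim _ _, ?_⟩
  rw [Spec.map_comp, Spec.map_comp, Category.assoc, Category.assoc,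
    Scheme.SpecMap_stalkSpecializes_fromSpecStalk, Scheme.SpecMap_stalkMap_fromSpecStalk]
  rfl

/-- Generic points of separated étale torsors over normal integral schemes extend. -/
theorem exists_section_of_etale {S : Scheme.{u}} [IsIntegral S] (hS : Pi1.IsNormalScheme S) {G E : Over S}
    [GrpObj G] [Etale E.hom] [IsSeparated E.hom] (a : AlgGrp.Action G E) (ha : NonAbH1.IsPseudoTorsorSch a)
    (hlt : NonAbH1.IsLocallyTrivialFor Scheme.fppfPrecoverage E)
    (hG : (topologically @SpecializingMap).universally G.hom)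
    (x : Spec S.functionField ⟶ E.left) (hx : x ≫ E.hom = S.fromSpecStalk (genericPoint S)) :
    ∃ σ : S ⟶ E.left, σ ≫ E.hom = 𝟙 S ∧ S.fromSpecStalk (genericPoint S) ≫ σ = x := by
  have hN : ∀ s : S, IsIntegrallyClosed (S.presheaf.stalk s) := fun s => (hS s).2
  let pt : Spec S.functionField := IsLocalRing.closedPoint _
  have hgpt : E.hom (x pt) = genericPoint S := by
    rw [← Scheme.Hom.comp_apply, hx]
    exact Scheme.fromSpecStalk_closedPoint
  let g : Groth.EtaleBase.NormalEt.Gen E.hom := ⟨x pt, hgpt⟩
  let C := Groth.EtaleBase.NormalEt.comp hN E.hom g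
  haveI : IsReduced E.left := by
    haveI : ∀ y : E.left, _root_.IsReduced (E.left.presheaf.stalk y) := fun y => by
      haveI := (Groth.Pi1Normal.isNormalScheme_of_etale hS E.hom y).1
      infer_instance
    exact isReduced_of_isReduced_stalk E.left
  have hxC : Set.range x ⊆ (C : Set E.left) := by
    rintro _ ⟨z, rfl⟩
    rw [show z = pt from (subsingleton_functionField S).elim _ _]
    exact subset_closure rfl
  haveI : IrreducibleSpace C := Subtype.irreducibleSpace isIrreducible_singleton.closure
  haveI : IsReduced (C : Scheme.{u}) := isReduced_of_isOpenImmersion C.ι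
  haveI : IsIntegral (C : Scheme.{u}) := isIntegral_of_irreducibleSpace_of_isReduced _
  let c : Spec S.functionField ⟶ C := IsOpenImmersion.lift C.ι x (by rwa [Scheme.Opens.range_ι])
  have hc : c ≫ C.ι = x := IsOpenImmersion.lift_fac _ _ _
  have hgen : c (IsLocalRing.closedPoint _) = genericPoint C := by
    apply C.ι.isOpenEmbedding.injective
    rw [← Scheme.Hom.comp_apply, hc]
    have h1 : IsGenericPoint (C.ι (genericPoint C)) (closure (C : Set E.left)) := by
      have := (genericPoint_spec C).image C.ι.continuous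
      rwa [Set.image_univ, Scheme.Opens.range_ι] at this
    have h2 : IsGenericPoint (x pt) (closure (C : Set E.left)) := (closure_closure (s := {x pt})).symm
    exact h2.eq h1
  obtain ⟨hη, hbir⟩ := birational_of_point (C.ι ≫ E.hom) c (by rw [← Category.assoc, hc, hx]) hgen
  haveI := Groth.LocImmersion.BirationalNormal.isLocalIso hN (C.ι ≫ E.hom) hη hbir
  haveI : IsOpenImmersion (C.ι ≫ E.hom) :=
    Groth.LocImmersion.BirationalNormal.isOpenImmersion_of_isLocalIso_injective _
      (Groth.LocImmersion.BirationalNormal.injective hN (C.ι ≫ E.hom) hη hbir)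
  haveI : Surjective (C.ι ≫ E.hom) := by
    refine ⟨fun s => ?_⟩
    obtain ⟨y, hy, hys⟩ := exists_specialization a ha hlt hG (K := S.functionField) x pt
      (fun T f t ht => by
        obtain ⟨T₀, j, l, t₀, h1, h2, h3⟩ := exists_field_cover S f t ht
        exact ⟨T₀, j, l, t₀, h1, h2, by rw [hx]; exact h3⟩) s
    exact ⟨⟨y, specializes_iff_mem_closure.1 hy⟩, hys⟩
  haveI : IsIso (C.ι ≫ E.hom) := isIso_of_isOpenImmersion_of_opensRange_eq_top _
    (Opens.ext (Set.range_eq_univ.2 (C.ι ≫ E.hom).surjective))
  obtain ⟨σ, h1, h2⟩ := exists_section_of_isIso C.ι E.hom c (by rw [← Category.assoc, hc, hx])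
  exact ⟨σ, h1, h2.trans hc⟩

theorem isReduced_image {X Y : Scheme.{u}} (f : X ⟶ Y) [QuasiCompact f] [IsReduced X] :
    IsReduced f.image := by
  have key : ∀ z : f.image, _root_.IsReduced (f.image.presheaf.stalk z) := by
    intro z
    obtain ⟨_, ⟨U, hU, rfl⟩, hzU, -⟩ :=
      Y.isBasis_affineOpens.exists_subset_of_mem_open (Set.mem_univ (f.imageι z)) isOpen_univ
    haveI : _root_.IsReduced Γ(f.image, f.imageι ⁻¹ᵁ U) :=
      isReduced_of_injective (f.toImage.app (f.imageι ⁻¹ᵁ U)).hom (f.toImage_app_injective ⟨U, hU⟩)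
    have hV : IsAffineOpen (f.imageι ⁻¹ᵁ U) := hU.preimage f.imageι
    letI := (f.image.presheaf.germ (f.imageι ⁻¹ᵁ U) z hzU).hom.toAlgebra
    haveI := hV.isLocalization_stalk ⟨z, hzU⟩
    exact isReduced_of_injective (IsLocalization.algEquiv (hV.primeIdealOf ⟨z, hzU⟩).asIdeal.primeCompl
      (f.image.presheaf.stalk z) (Localization.AtPrime (hV.primeIdealOf ⟨z, hzU⟩).asIdeal)).toRingEquiv.toRingHom
      (RingEquiv.injective _)
  exact isReduced_of_isReduced_stalk _

/-- Generic points of integral morphisms to normal integral schemes extend. -/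
theorem exists_section_of_isIntegralHom {X : Scheme.{u}} [IsIntegral X] (hX : Pi1.IsNormalScheme X)
    {Y : Scheme.{u}} (p : Y ⟶ X) [IsIntegralHom p] (x : Spec X.functionField ⟶ Y)
    (hx : x ≫ p = X.fromSpecStalk (genericPoint X)) :
    ∃ σ : X ⟶ Y, σ ≫ p = 𝟙 X ∧ X.fromSpecStalk (genericPoint X) ≫ σ = x := by
  haveI := isReduced_image x
  haveI : IrreducibleSpace x.image := by
    have hd : DenseRange x.toImage := x.toImage.denseRange
    have hirr : IsIrreducible (Set.range x.toImage) := by
      rw [← Set.image_univ]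
      exact (IrreducibleSpace.isIrreducible_univ _).image _ x.toImage.continuous.continuousOn
    have h := hirr.closure
    rw [hd.closure_range] at h
    exact irreducibleSpace_def _ |>.2 h
  haveI : IsIntegral x.image := isIntegral_of_irreducibleSpace_of_isReduced _
  have hgen : x.toImage (IsLocalRing.closedPoint _) = genericPoint x.image := by
    refine IsGenericPoint.eq ?_ (genericPoint_spec x.image)
    rw [IsGenericPoint, ← x.toImage.denseRange.closure_range]
    congr 1
    exact (Set.range_unique).symm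
  obtain ⟨hη, hbir⟩ := birational_of_point (x.imageι ≫ p) x.toImage
    (by rw [← Category.assoc, x.toImage_imageι, hx]) hgen
  haveI := Groth.LocImmersion.BirationalNormal.isIso_of_isIntegralHom (fun y => (hX y).2)
    (x.imageι ≫ p) hη hbir
  obtain ⟨σ, h1, h2⟩ := exists_section_of_isIso x.imageι p x.toImage
    (by rw [← Category.assoc, x.toImage_imageι, hx])
  exact ⟨σ, h1, h2.trans x.toImage_imageι⟩

end Groth.TorsProper
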