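import Mathlib
import Groth.Prelude.Def_ActBC
import Groth.Agent.TorsProper.Normal
import Groth.Agent.AlgGrp1.Basic
import Groth.Agent.AlgSpBasic.Topology
import Groth.Agent.EtaleBase.FpqcDescent
import Groth.Agent.S6011
import Groth.Agent.TorsProper.Main

/-!
Torsors under étale groups over fields (or finite groups) over normal integral schemes.
-/

set_option autoImplicit false
set_option backward.isDefEq.respectTransparency false

universe u

open CategoryTheory CategoryTheory.Limits MonoidalCategory CartesianMonoidalCategory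
open AlgebraicGeometry TopologicalSpace

noncomputable section

namespace Groth.TorsProper

/-- Étale separated schemes over fields are universally specializing. -/
theorem universally_specializing_of_etale {k : Type u} [Field k] {X : Scheme.{u}}
    (f : X ⟶ Spec (CommRingCat.of k)) [Etale f] [IsSeparated f] :
    (topologically @SpecializingMap).universally f := by
  intro W S' i₁ i₂ f' hpb w s' hws
  haveI : Subsingleton (Spec (CommRingCat.of k)) :=
    inferInstanceAs (Subsingleton (PrimeSpectrum k))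
  have hdisc : IsOpen ({i₁ w} : Set X) := by
    haveI : DiscreteTopology X := by
      have h := (f.isDiscrete_preimage_singleton (f (i₁ w))).1
      have hu : f ⁻¹' {f (i₁ w)} = Set.univ := Set.eq_univ_of_forall fun z => Subsingleton.elim (f z) _
      rw [hu] at h
      exact (Homeomorph.Set.univ X).discreteTopology
    exact isOpen_discrete _
  let V : X.Opens := ⟨{i₁ w}, hdisc⟩
  haveI : Finite V := (Set.finite_singleton (i₁ w)).to_subtype
  haveI : CompactSpace V := Finite.compactSpace
  haveI : QuasiCompact (V.ι ≫ f) :=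
    (HasAffineProperty.iff_of_isAffine (P := @QuasiCompact)).mpr inferInstance
  haveI : IsFinite (V.ι ≫ f) := IsFinite.of_locallyQuasiFinite _
  have hsq : IsPullback ((i₁ ⁻¹ᵁ V).ι ≫ f') (i₁ ∣_ V) i₂ (V.ι ≫ f) :=
    (isPullback_morphismRestrict i₁ V).flip.paste_horiz hpb
  haveI : UniversallyClosed ((i₁ ⁻¹ᵁ V).ι ≫ f') :=
    MorphismProperty.of_isPullback hsq.flip (inferInstance : UniversallyClosed (V.ι ≫ f))
  obtain ⟨z, hz1, hz2⟩ := ((i₁ ⁻¹ᵁ V).ι ≫ f').isClosedMap.specializingMap
    (a := ⟨w, rfl⟩) (show ((i₁ ⁻¹ᵁ V).ι ≫ f') ⟨w, rfl⟩ ⤳ s' from hws)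
  exact ⟨z.1, hz1.map continuous_subtype_val, hz2⟩

theorem torsor_etale {S : Scheme.{u}} {G X : Over S} [GrpObj G] [Etale G.hom] [IsSeparated G.hom]
    (a : AlgGrp.Action G X) (ha : NonAbH1.IsTorsorFor Scheme.fppfPrecoverage a) :
    Etale X.hom ∧ IsSeparated X.hom := by
  haveI : MorphismProperty.IsLocalAtTarget (@IsSeparated.{u}) Scheme.fppfPrecoverage :=
    Groth.AlgSpBasic.isLocalAtTarget_fppf _
  exact ⟨Groth.NeronArea.property_of_isLocallyTrivial a ha.1 @Etale ha.2 ‹_›,
    Groth.NeronArea.property_of_isLocallyTrivial a ha.1 @IsSeparated ha.2 ‹_›⟩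

theorem torsor_integral {S : Scheme.{u}} {G X : Over S} [GrpObj G] [IsFinite G.hom]
    (a : AlgGrp.Action G X) (ha : NonAbH1.IsTorsorFor Scheme.fppfPrecoverage a) :
    IsFinite X.hom := by
  haveI : MorphismProperty.IsLocalAtTarget (@IsFinite.{u}) Scheme.fppfPrecoverage :=
    Groth.AlgSpBasic.isLocalAtTarget_fppf _
  exact Groth.NeronArea.property_of_isLocallyTrivial a ha.1 @IsFinite ha.2 ‹_›

theorem isIso_residue_genericPoint (S : Scheme.{u}) [IsIntegral S] : IsIso (S.residue (genericPoint S)) := by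
  rw [ConcreteCategory.isIso_iff_bijective]
  exact ⟨(show S.functionField ⟶ _ from S.residue (genericPoint S)).hom.injective, S.residue_surjective _⟩

variable {k : Type u} [Field k] {G : Over (Spec (CommRingCat.of k))} [GrpObj G] [Etale G.hom]
  {S : Scheme.{u}} [IsIntegral S] (hS : Pi1.IsNormalScheme S) (s : S ⟶ Spec (CommRingCat.of k))
  (E : NonAbH1.TorsorSch (Red.bc s G) Scheme.fppfPrecoverage)

include hS in
theorem sections_to_generic (x : Spec (S.residueField (genericPoint S)) ⟶ E.X.left)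
    (hx : x ≫ E.X.hom = S.fromSpecResidueField (genericPoint S)) :
    ∃ σ : S ⟶ E.X.left, σ ≫ E.X.hom = 𝟙 S ∧ S.fromSpecResidueField (genericPoint S) ≫ σ = x := by
  haveI := isSeparated_of_grpObj G
  haveI : Etale (Red.bc s G).hom := inferInstanceAs (Etale (pullback.snd G.hom s))
  haveI : IsSeparated (Red.bc s G).hom := inferInstanceAs (IsSeparated (pullback.snd G.hom s))
  obtain ⟨_, _⟩ := torsor_etale E.act E.isTorsor
  have hG : (topologically @SpecializingMap).universally (Red.bc s G).hom :=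
    MorphismProperty.of_isPullback (IsPullback.of_hasPullback G.hom s)
      (universally_specializing_of_etale G.hom)
  haveI := isIso_residue_genericPoint S
  have hx' : (inv (Spec.map (S.residue (genericPoint S))) ≫ x) ≫ E.X.hom = S.fromSpecStalk (genericPoint S) := by
    rw [Category.assoc, hx, IsIso.inv_comp_eq]
    rfl
  obtain ⟨σ, h1, h2⟩ := exists_section_of_etale hS E.act E.isTorsor.1 E.isTorsor.2 hG _ hx'
  refine ⟨σ, h1, ?_⟩
  show (Spec.map (S.residue (genericPoint S)) ≫ S.fromSpecStalk (genericPoint S)) ≫ σ = x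
  rw [Category.assoc, h2, IsIso.hom_inv_id_assoc]
where
  isSeparated_of_grpObj (G : Over (Spec (CommRingCat.of k))) [GrpObj G] : IsSeparated G.hom :=
    Groth.AlgGrp1.isSeparated_grpObj G

theorem sections_eq {σ₁ σ₂ : S ⟶ E.X.left} (h₁ : σ₁ ≫ E.X.hom = 𝟙 S) (h₂ : σ₂ ≫ E.X.hom = 𝟙 S)
    (h : S.fromSpecResidueField (genericPoint S) ≫ σ₁ = S.fromSpecResidueField (genericPoint S) ≫ σ₂) :
    σ₁ = σ₂ := by
  haveI := Groth.AlgGrp1.isSeparated_grpObj G
  haveI : Etale (Red.bc s G).hom := inferInstanceAs (Etale (pullback.snd G.hom s))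
  haveI : IsSeparated (Red.bc s G).hom := inferInstanceAs (IsSeparated (pullback.snd G.hom s))
  obtain ⟨_, _⟩ := torsor_etale E.act E.isTorsor
  haveI : IsDominant (S.fromSpecResidueField (genericPoint S)) :=
    ⟨by rw [DenseRange, Scheme.range_fromSpecResidueField, dense_iff_closure_eq]; exact genericPoint_closure S⟩
  exact ext_of_isDominant_of_isSeparated E.X.hom (by rw [h₁, h₂]) _ h

include hS in
theorem eq_one_of_generic (c : NonAbH1.H1Sch (Red.bc s G) Scheme.fppfPrecoverage)
    (hc : NonAbH1.H1Sch.bcMap (S.fromSpecResidueField (genericPoint S)) (Red.bc s G) Scheme.fppfPrecoverage c = 1) :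
    c = 1 := by
  induction c using Quot.ind with
  | mk P =>
    obtain ⟨e⟩ := (equivIso_equivalence _).eqvGen_iff.1 (Quot.eqvGen_exact hc.symm)
    obtain ⟨t, ht⟩ : NonAbH1.HasSectionOver (P.bc (S.fromSpecResidueField (genericPoint S))).X (𝟙 _) :=
      ⟨((MonObj.one (X := Red.bc (S.fromSpecResidueField (genericPoint S)) (Red.bc s G))) ≫ e.iso.hom).left,
        Over.w _⟩
    obtain ⟨σ, hσ, -⟩ := sections_to_generic hS s P (t ≫ pullback.fst _ _) (by
      rw [Category.assoc, pullback.condition]
      show t ≫ (Red.bc _ P.X).hom ≫ _ = _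
      rw [← Category.assoc]
      exact (congrArg (· ≫ S.fromSpecResidueField (genericPoint S)) ht).trans (Category.id_comp _))
    obtain ⟨e⟩ := (Groth.Agent.S6011.result _ _ P.act).2 ⟨P.isTorsor.1, σ, hσ⟩
    exact (Quot.sound (r := fun P Q : NonAbH1.TorsorSch (Red.bc s G) Scheme.fppfPrecoverage =>
      Nonempty (NonAbH1.EquivIso P.act Q.act))
      (a := ⟨Red.bc s G, NonAbH1.trivialAction _, NonAbH1.isTorsorFor_trivialAction _ _⟩) (b := P) ⟨e⟩).symm

theorem hasSectionOver_id_of_finite {X : Scheme.{u}} [IsIntegral X] (hX : Pi1.IsNormalScheme X)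
    {G Y : Over X} [GrpObj G] [IsFinite G.hom] {a : AlgGrp.Action G Y}
    (hY : NonAbH1.IsTorsorFor Scheme.fppfPrecoverage a)
    (hgen : NonAbH1.HasSectionOver Y (X.fromSpecStalk (genericPoint X))) :
    NonAbH1.HasSectionOver Y (𝟙 X) := by
  haveI := torsor_integral a hY
  obtain ⟨x, hx⟩ := hgen
  obtain ⟨σ, hσ, -⟩ := exists_section_of_isIntegralHom hX Y.hom x hx
  exact ⟨σ, hσ⟩

end Groth.TorsProper
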