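import Mathlib
import Groth.Agent.TorsProper.EtaleGroup
import Groth.Agent.Misc7.DepthTwoExtend
import Groth.Agent.Smt.RegularLocal
import Groth.Agent.AlgSp2.SmoothDescent

/-!
Morphisms from flat schemes to affine schemes extend across closed subsets of depth at least two.
-/

set_option autoImplicit false
set_option backward.isDefEq.respectTransparency false

universe u

open CategoryTheory CategoryTheory.Limits MonoidalCategory CartesianMonoidalCategory
open AlgebraicGeometry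

noncomputable section

namespace Groth.TorsProper.DepthTwo

theorem exists_pair (R : Type u) [CommRing R] [IsRegularLocalRing R] (h : (2 : WithBot ℕ∞) ≤ ringKrullDim R) :
    ∃ a b : R, a ∈ IsLocalRing.maximalIdeal R ∧ b ∈ IsLocalRing.maximalIdeal R ∧
      RingTheory.Sequence.IsWeaklyRegular R [a, b] := by
  obtain ⟨rs, h1, h2, h3⟩ := Groth.Smt.exists_isWeaklyRegular_of_isRegularLocalRing R
  rw [← h3] at h
  have h' : 2 ≤ rs.length := by exact_mod_cast h
  match rs, h1, h2, h' with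
  | [], _, _, h => simp at h
  | [a], _, _, h => simp at h
  | a :: b :: rest, h1, h2, _ =>
    refine ⟨a, b, h2 a (by simp), h2 b (by simp), ?_⟩
    rw [RingTheory.Sequence.isWeaklyRegular_cons_iff, RingTheory.Sequence.isWeaklyRegular_singleton_iff]
    rw [RingTheory.Sequence.isWeaklyRegular_cons_iff, RingTheory.Sequence.isWeaklyRegular_cons_iff] at h1
    exact ⟨h1.1, h1.2.1⟩

variable {X : Scheme.{u}} {U : X.Opens} [QuasiCompact U.ι]
  (hZ : ∀ z : X, z ∉ U → IsRegularLocalRing (X.presheaf.stalk z) ∧ (2 : WithBot ℕ∞) ≤ ringKrullDim (X.presheaf.stalk z))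

include hZ in
omit [QuasiCompact U.ι] in
theorem pair_preimage (Y : Over X) [Flat Y.hom] : ∀ y : Y.left, y ∉ Y.hom ⁻¹ᵁ U →
    ∃ a b : Y.left.presheaf.stalk y, a ∈ IsLocalRing.maximalIdeal (Y.left.presheaf.stalk y) ∧
      b ∈ IsLocalRing.maximalIdeal (Y.left.presheaf.stalk y) ∧
      RingTheory.Sequence.IsWeaklyRegular (Y.left.presheaf.stalk y) [a, b] := fun y hy => by
  obtain ⟨hreg, hdim⟩ := hZ (Y.hom y) hy
  obtain ⟨a, b, ha, hb, hab⟩ := exists_pair _ hdim
  let φ := (Y.hom.stalkMap y).hom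
  letI : Algebra (X.presheaf.stalk (Y.hom y)) (Y.left.presheaf.stalk y) := φ.toAlgebra
  haveI : Module.Flat (X.presheaf.stalk (Y.hom y)) (Y.left.presheaf.stalk y) :=
    Flat.stalkMap Y.hom y
  refine ⟨φ a, φ b, ?_, ?_, hab.of_flat (S := Y.left.presheaf.stalk y)⟩
  · exact fun hu => ha (isUnit_of_map_unit φ a hu)
  · exact fun hu => hb (isUnit_of_map_unit φ b hu)

omit [QuasiCompact U.ι] in
theorem isPullback_preimage (Y : Over X) :
    IsPullback (Y.hom ⁻¹ᵁ U).ι (Y.hom ∣_ U) Y.hom U.ι :=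
  (isPullback_morphismRestrict Y.hom U).flip

theorem quasiCompact_preimage (Y : Over X) : QuasiCompact (Y.hom ⁻¹ᵁ U).ι :=
  MorphismProperty.of_isPullback (isPullback_preimage Y).flip ‹QuasiCompact U.ι›

include hZ in
theorem hom_ext {Y Q : Over X} [Flat Y.hom] [IsSeparated Q.hom] {h₁ h₂ : Y ⟶ Q}
    (h : (Over.pullback U.ι).map h₁ = (Over.pullback U.ι).map h₂) : h₁ = h₂ := by
  haveI := quasiCompact_preimage (U := U) Y
  let f := pullback.fst Y.hom Q.hom
  have key := Groth.Agent.S14271.result Y.left (Y.hom ⁻¹ᵁ U)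
    (Misc7.DepthTwo.depth_one (pair_preimage hZ Y)) _ f
    (pullback.lift (𝟙 _) h₁.left (by simp)) (pullback.lift (𝟙 _) h₂.left (by simp))
    (pullback.lift_fst _ _ _) (pullback.lift_fst _ _ _) ?_
  · exact Over.OverMorphism.ext (by simpa using congrArg (· ≫ pullback.snd Y.hom Q.hom) key)
  · apply pullback.hom_ext
    · simp
    · simp only [Category.assoc, pullback.lift_snd]
      have e : ∀ k : Y ⟶ Q, (Y.hom ⁻¹ᵁ U).ι ≫ k.left =
          (isPullback_preimage Y).isoPullback.hom ≫ ((Over.pullback U.ι).map k).left ≫ pullback.fst Q.hom U.ι := by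
        intro k
        rw [show ((Over.pullback U.ι).map k).left ≫ pullback.fst Q.hom U.ι = pullback.fst Y.hom U.ι ≫ k.left from
          pullback.lift_fst _ _ _, IsPullback.isoPullback_hom_fst_assoc]
      rw [e, e, h]

include hZ in
theorem exists_hom {Y Q : Over X} [Flat Y.hom] [IsAffineHom Q.hom]
    (h' : (Over.pullback U.ι).obj Y ⟶ (Over.pullback U.ι).obj Q) :
    ∃ h : Y ⟶ Q, (Over.pullback U.ι).map h = h' := by
  haveI := quasiCompact_preimage (U := U) Y
  let w := (isPullback_preimage (U := U) Y).isoPullback.hom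
  let f := pullback.fst Y.hom Q.hom
  haveI : IsAffineHom f := MorphismProperty.pullback_fst _ _ ‹IsAffineHom Q.hom›
  have hw : w ≫ pullback.fst Y.hom U.ι = (Y.hom ⁻¹ᵁ U).ι := IsPullback.isoPullback_hom_fst _
  have h'w : h'.left ≫ pullback.snd Q.hom U.ι = pullback.snd Y.hom U.ι := Over.w h'
  obtain ⟨s, ⟨hs1, hs2⟩, -⟩ := Misc7.DepthTwo.existsUnique_extension (pair_preimage hZ Y) _ f
    (pullback.lift (Y.hom ⁻¹ᵁ U).ι (w ≫ h'.left ≫ pullback.fst Q.hom U.ι) (by
      rw [Category.assoc, Category.assoc, pullback.condition, reassoc_of% h'w, ← pullback.condition,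
        reassoc_of% hw]))
    (pullback.lift_fst _ _ _)
  refine ⟨Over.homMk (s ≫ pullback.snd Y.hom Q.hom) (by
    rw [Category.assoc, ← pullback.condition, reassoc_of% hs1]), Over.OverMorphism.ext (pullback.hom_ext ?_ ?_)⟩
  · rw [show ∀ k : Y ⟶ Q, ((Over.pullback U.ι).map k).left ≫ pullback.fst Q.hom U.ι = pullback.fst Y.hom U.ι ≫ k.left
      from fun k => pullback.lift_fst _ _ _, ← cancel_epi w, reassoc_of% hw]
    show (Y.hom ⁻¹ᵁ U).ι ≫ s ≫ pullback.snd Y.hom Q.hom = _
    rw [reassoc_of% hs2, pullback.lift_snd]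
  · rw [h'w]
    exact pullback.lift_snd _ _ _

include hZ in
/-- Equivariant morphisms of torsors under a finite locally free group extend. -/
theorem existsUnique_hom (G : Over X) [GrpObj G] [IsFinite G.hom] [Flat G.hom]
    {Q₁ Q₂ : Over X} (a₁ : AlgGrp.Action G Q₁) (a₂ : AlgGrp.Action G Q₂)
    (h₁ : NonAbH1.IsTorsorFor Scheme.fppfPrecoverage a₁) (h₂ : NonAbH1.IsTorsorFor Scheme.fppfPrecoverage a₂)
    (h' : (Over.pullback U.ι).obj Q₁ ⟶ (Over.pullback U.ι).obj Q₂)
    (hh' : (Functor.LaxMonoidal.μ (Over.pullback U.ι) G Q₁ ≫ (Over.pullback U.ι).map a₁.act) ≫ h' =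
      ((Over.pullback U.ι).obj G ◁ h') ≫ (Functor.LaxMonoidal.μ (Over.pullback U.ι) G Q₂ ≫ (Over.pullback U.ι).map a₂.act)) :
    ∃! h : Q₁ ⟶ Q₂, a₁.act ≫ h = (G ◁ h) ≫ a₂.act ∧ (Over.pullback U.ι).map h = h' := by
  haveI := torsor_integral a₁ h₁
  haveI := torsor_integral a₂ h₂
  haveI : Flat Q₁.hom := Groth.NeronArea.property_of_isLocallyTrivial a₁ h₁.1 @Flat h₁.2 ‹_›
  obtain ⟨h, hh⟩ := exists_hom hZ h'
  refine ⟨h, ⟨?_, hh⟩, fun k hk => hom_ext hZ (hk.2.trans hh.symm)⟩
  haveI : Flat (G ⊗ Q₁).hom := by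
    haveI : Flat (fst G Q₁).left := inferInstanceAs (Flat (pullback.fst G.hom Q₁.hom))
    rw [← Over.w (fst G Q₁)]; infer_instance
  refine hom_ext hZ ?_
  rw [← cancel_epi (Functor.LaxMonoidal.μ (Over.pullback U.ι) G Q₁), Functor.map_comp, Functor.map_comp,
    ← Functor.LaxMonoidal.μ_natural_right_assoc, hh, ← Category.assoc, hh']

end Groth.TorsProper.DepthTwo
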